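import Cfsg.Prelude.Def_OddOrderChar
import Cfsg.Prelude.Def_OddOrderLocal
import Cfsg.Agent.Char.Gen
import Mathlib.GroupTheory.Complement

/-!
# The Dade hypothesis: elementary consequences, the Dade map, its support
-/

namespace Cfsg.Agent.Coherence.Dade

open scoped ComplexConjugate

universe u

section Basic

variable {G : Type u} [Group G] {A : Set G} {L : Subgroup G} {H : G → Subgroup G}

/-- The centralizer of `a` in `L`. -/
abbrev centL (L : Subgroup G) (a : G) : Subgroup G := L ⊓ Subgroup.centralizer ({a} : Set G)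

theorem mem_centralizer_singleton {a c : G} :
    c ∈ Subgroup.centralizer ({a} : Set G) ↔ a * c = c * a := by
  rw [Subgroup.mem_centralizer_singleton_iff]; exact eq_comm

theorem comm_of_mem (hD : DadeHypothesis A L H) {a u : G} (ha : a ∈ A) (hu : u ∈ H a) :
    Commute a u :=
  mem_centralizer_singleton.1 (hD.le_centralizer a ha hu)

theorem self_mem_centL (hD : DadeHypothesis A L H) {a : G} (ha : a ∈ A) : a ∈ centL L a :=
  ⟨hD.subset ha, mem_centralizer_singleton.2 rfl⟩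

theorem conj_mem_centralizer {a c x : G} (hc : c ∈ Subgroup.centralizer ({a} : Set G)) :
    x * c * x⁻¹ ∈ Subgroup.centralizer ({x * a * x⁻¹} : Set G) := by
  rw [mem_centralizer_singleton] at hc ⊢
  calc x * a * x⁻¹ * (x * c * x⁻¹) = x * (a * c) * x⁻¹ := by group
    _ = x * (c * a) * x⁻¹ := by rw [hc]
    _ = x * c * x⁻¹ * (x * a * x⁻¹) := by group

theorem inv_conj_mem_L {x a : G} (hx : x ∈ L) (ha : a ∈ L) : x * a * x⁻¹ ∈ L :=
  L.mul_mem (L.mul_mem hx ha) (L.inv_mem hx)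

theorem card_centL_conj {x : G} (hx : x ∈ L) (a : G) :
    Nat.card (centL L (x * a * x⁻¹)) = Nat.card (centL L a) := by
  have hmap : centL L (x * a * x⁻¹) = (centL L a).map (MulAut.conj x).toMonoidHom := by
    ext y
    simp only [Subgroup.mem_map, MulEquiv.coe_toMonoidHom, MulAut.conj_apply]
    constructor
    · rintro ⟨hyL, hy⟩
      refine ⟨x⁻¹ * y * x, ⟨L.mul_mem (L.mul_mem (L.inv_mem hx) hyL) hx, ?_⟩, by group⟩
      have := conj_mem_centralizer (x := x⁻¹) hy
      simpa [mul_assoc] using this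
    · rintro ⟨z, ⟨hzL, hz⟩, rfl⟩
      exact ⟨inv_conj_mem_L hx hzL, conj_mem_centralizer hz⟩
  rw [hmap, Subgroup.card_map_of_injective (MulAut.conj x).injective]

theorem disjoint_L (hD : DadeHypothesis A L H) {a u : G} (ha : a ∈ A) (hu : u ∈ H a)
    (huL : u ∈ L) : u = 1 :=
  Subgroup.mem_bot.1 ((hD.inf_eq_bot a ha) ▸
    (⟨hu, huL, hD.le_centralizer a ha hu⟩ : u ∈ H a ⊓ centL L a))

theorem exists_factor (hD : DadeHypothesis A L H) {a c : G} (ha : a ∈ A)
    (hc : c ∈ Subgroup.centralizer ({a} : Set G)) :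
    ∃ l ∈ centL L a, ∃ h ∈ H a, c = l * h := by
  have hcl : centL L a ≤ Subgroup.normalizer (H a : Set G) := by
    intro l hl
    rw [Subgroup.mem_set_normalizer_iff]
    intro v
    refine ⟨fun hv => hD.conj_mem_H a ha l hl.2 v hv, fun hv => ?_⟩
    have := hD.conj_mem_H a ha l⁻¹ (inv_mem hl.2) _ hv
    simpa [mul_assoc] using this
  have hmem : c ∈ centL L a ⊔ H a := by rw [sup_comm]; rw [hD.sup_eq a ha]; exact hc
  rw [← SetLike.mem_coe, Subgroup.coe_mul_of_left_le_normalizer_right _ _ hcl] at hmem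
  obtain ⟨l, hl, h, hh, rfl⟩ := Set.mem_mul.1 hmem
  exact ⟨l, hl, h, hh, rfl⟩

theorem mul_pow_factor (hD : DadeHypothesis A L H) {a l h : G} (ha : a ∈ A) (hl : l ∈ centL L a)
    (hh : h ∈ H a) (k : ℕ) : ∃ h' ∈ H a, (l * h) ^ k = l ^ k * h' := by
  induction k with
  | zero => exact ⟨1, one_mem _, by simp⟩
  | succ k ih =>
    obtain ⟨h', hh', e⟩ := ih
    refine ⟨l⁻¹ * h' * l⁻¹⁻¹ * h,
      mul_mem (hD.conj_mem_H a ha l⁻¹ (inv_mem hl.2) h' hh') hh, ?_⟩
    rw [pow_succ, e, pow_succ]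
    group

theorem mem_H_iff [Finite G] (hD : DadeHypothesis A L H) {a y : G} (ha : a ∈ A) :
    y ∈ H a ↔ y ∈ Subgroup.centralizer ({a} : Set G) ∧
      Nat.Coprime (orderOf y) (Nat.card (centL L a)) := by
  refine ⟨fun hy => ⟨hD.le_centralizer a ha hy,
    Nat.Coprime.coprime_dvd_left (Subgroup.orderOf_dvd_natCard _ hy) (hD.coprime a ha a ha)⟩, ?_⟩
  rintro ⟨hy, hcop⟩
  obtain ⟨l, hl, h, hh, rfl⟩ := exists_factor hD ha hy
  obtain ⟨h', hh', e⟩ := mul_pow_factor hD ha hl hh (orderOf (l * h))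
  rw [pow_orderOf_eq_one] at e
  have hlk : l ^ orderOf (l * h) ∈ H a := by
    rw [eq_inv_of_mul_eq_one_left e.symm]; exact inv_mem hh'
  have h1 : orderOf l = 1 :=
    Nat.dvd_one.1 (hcop ▸ Nat.dvd_gcd
      (orderOf_dvd_of_pow_eq_one (disjoint_L hD ha hlk (L.pow_mem hl.1 _)))
      (Subgroup.orderOf_dvd_natCard _ hl))
  rw [orderOf_eq_one_iff.1 h1, one_mul]
  exact hh

theorem H_conj_mem [Finite G] (hD : DadeHypothesis A L H) {a x u : G} (ha : a ∈ A) (hx : x ∈ L)
    (hu : u ∈ H a) : x * u * x⁻¹ ∈ H (x * a * x⁻¹) := by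
  rw [mem_H_iff hD (hD.conj_mem x hx a ha)]
  obtain ⟨h1, h2⟩ := (mem_H_iff hD ha).1 hu
  refine ⟨conj_mem_centralizer h1, ?_⟩
  rw [card_centL_conj hx, ← MulAut.conj_apply, MulEquiv.orderOf_eq]
  exact h2

theorem H_conj [Finite G] (hD : DadeHypothesis A L H) {a x : G} (ha : a ∈ A) (hx : x ∈ L) :
    H (x * a * x⁻¹) = (H a).map (MulAut.conj x).toMonoidHom := by
  ext y
  simp only [Subgroup.mem_map, MulEquiv.coe_toMonoidHom, MulAut.conj_apply]
  refine ⟨fun hy => ⟨x⁻¹ * y * x, ?_, by group⟩, ?_⟩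
  · have := H_conj_mem hD (hD.conj_mem x hx a ha) (inv_mem hx) hy
    simpa [mul_assoc] using this
  · rintro ⟨z, hz, rfl⟩
    exact H_conj_mem hD ha hx hz

/-- The centralizer-order trick: a conjugation of cosets is a conjugation of representatives. -/
theorem conj_eq [Finite G] (hD : DadeHypothesis A L H) {a b u v g : G} (ha : a ∈ A) (hb : b ∈ A)
    (hu : u ∈ H a) (hv : v ∈ H b) (h : g * (a * u) * g⁻¹ = b * v) : g * a * g⁻¹ = b := by
  have hcop : Nat.Coprime (Nat.card (centL L a) * Nat.card (centL L b))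
      (Nat.card (H a) * Nat.card (H b)) :=
    Nat.Coprime.mul_left
      (Nat.Coprime.mul_right (hD.coprime a ha a ha).symm (hD.coprime b hb a ha).symm)
      (Nat.Coprime.mul_right (hD.coprime a ha b hb).symm (hD.coprime b hb b hb).symm)
  obtain ⟨k, hk1, hk0⟩ := Nat.chineseRemainder hcop 1 0
  have hfix : ∀ c ∈ A, Nat.card (centL L c) ∣ Nat.card (centL L a) * Nat.card (centL L b) →
      ∀ w ∈ H c, Nat.card (H c) ∣ Nat.card (H a) * Nat.card (H b) → (c * w) ^ k = c := by
    intro c hc hdvd w hw hdvd'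
    rw [(comm_of_mem hD hc hw).mul_pow]
    have hc1 : c ^ k = c ^ 1 := pow_eq_pow_iff_modEq.2
      (hk1.of_dvd ((Subgroup.orderOf_dvd_natCard _ (self_mem_centL hD hc)).trans hdvd))
    have hw1 : w ^ k = w ^ 0 := pow_eq_pow_iff_modEq.2
      (hk0.of_dvd ((Subgroup.orderOf_dvd_natCard _ hw).trans hdvd'))
    rw [hc1, hw1, pow_one, pow_zero, mul_one]
  have := congrArg (· ^ k) h
  simp only [conj_pow] at this
  rwa [hfix a ha (dvd_mul_right _ _) u hu (dvd_mul_right _ _),
    hfix b hb (dvd_mul_left _ _) v hv (dvd_mul_left _ _)] at this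

theorem coset_unique [Finite G] (hD : DadeHypothesis A L H) {a b u v : G} (ha : a ∈ A)
    (hb : b ∈ A) (hu : u ∈ H a) (hv : v ∈ H b) (h : a * u = b * v) : a = b ∧ u = v := by
  have h1 := conj_eq hD ha hb hu hv (g := 1) (by simpa using h)
  have h2 : a = b := by simpa using h1
  subst h2
  exact ⟨rfl, mul_left_cancel h⟩

/-- An element moving one coset representative to another lies in `L * H a`. -/
theorem mover_factor [Finite G] (hD : DadeHypothesis A L H) {a b u v g : G} (ha : a ∈ A)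
    (hb : b ∈ A) (hu : u ∈ H a) (hv : v ∈ H b) (h : g * (a * u) * g⁻¹ = b * v) :
    ∃ l ∈ L, ∃ y ∈ H a, g = l * y ∧ l * a * l⁻¹ = b := by
  have hg := conj_eq hD ha hb hu hv h
  obtain ⟨x, hx, hxa⟩ := hD.fusion a ha g (hg ▸ hb)
  have hc : x⁻¹ * g ∈ Subgroup.centralizer ({a} : Set G) := by
    rw [mem_centralizer_singleton]
    calc a * (x⁻¹ * g) = x⁻¹ * (x * a * x⁻¹) * g := by group
      _ = x⁻¹ * (g * a * g⁻¹) * g := by rw [hxa]
      _ = x⁻¹ * g * a := by group
  obtain ⟨l, hl, y, hy, e⟩ := exists_factor hD ha hc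
  refine ⟨x * l, L.mul_mem hx hl.1, y, hy, ?_, ?_⟩
  · rw [mul_assoc, ← e]; group
  · rw [← hg, ← hxa]
    have := mem_centralizer_singleton.1 hl.2
    calc x * l * a * (x * l)⁻¹ = x * (l * a) * l⁻¹ * x⁻¹ := by group
      _ = x * (a * l) * l⁻¹ * x⁻¹ := by rw [this]
      _ = x * a * x⁻¹ := by group

theorem normalizer_coset [Finite G] (hD : DadeHypothesis A L H) {a : G} (ha : a ∈ A) :
    Subgroup.normalizer ((fun u : G => a * u) '' (H a : Set G)) =
      Subgroup.centralizer ({a} : Set G) := by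
  ext g
  constructor
  · intro hg
    obtain ⟨v, hv, he⟩ := (Subgroup.mem_set_normalizer_iff.1 hg (a * 1)).1 ⟨1, one_mem _, rfl⟩
    have := conj_eq hD ha ha (one_mem _) hv (g := g) he.symm
    rw [mem_centralizer_singleton]
    calc a * g = g * a * g⁻¹ * g := by rw [this]
      _ = g * a := by group
  · intro hg
    rw [Subgroup.mem_set_normalizer_iff]
    have key : ∀ c ∈ Subgroup.centralizer ({a} : Set G), ∀ w ∈ H a,
        c * (a * w) * c⁻¹ ∈ (fun u : G => a * u) '' (H a : Set G) := by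
      intro c hc w hw
      refine ⟨c * w * c⁻¹, hD.conj_mem_H a ha c hc w hw, ?_⟩
      have h1 := mem_centralizer_singleton.1 hc
      calc a * (c * w * c⁻¹) = a * c * (w * c⁻¹) := by group
        _ = c * a * (w * c⁻¹) := by rw [h1]
        _ = c * (a * w) * c⁻¹ := by group
    intro w
    refine ⟨?_, ?_⟩
    · rintro ⟨z, hz, rfl⟩; exact key g hg z hz
    · rintro ⟨z, hz, hz'⟩
      have := key g⁻¹ (inv_mem hg) z hz
      simpa [hz', mul_assoc] using this

/-- The set of elements where the Dade map can be nonzero. -/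
def support (A : Set G) (H : G → Subgroup G) : Set G :=
  {g | ∃ a ∈ A, ∃ u ∈ H a, ∃ x : G, x * g * x⁻¹ = a * u}

theorem dade_apply [Finite G] (hD : DadeHypothesis A L H) {α : L → ℂ} (hα : IsClassFunction L α)
    {a : L} (ha : (a : G) ∈ A) {u x g : G} (hu : u ∈ H (a : G))
    (h : x * g * x⁻¹ = (a : G) * u) : dadeIsometry A L H α g = α a := by
  have hex : ∃ b : ↥L, (b : G) ∈ A ∧ ∃ x : G, ∃ u ∈ H (b : G), x * g * x⁻¹ = (b : G) * u :=
    ⟨a, ha, x, u, hu, h⟩
  rw [dadeIsometry, dif_pos hex]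
  obtain ⟨hb, y, v, hv, hy⟩ := Classical.choose_spec hex
  set b := Classical.choose hex
  have hg : (y * x⁻¹) * ((a : G) * u) * (y * x⁻¹)⁻¹ = (b : G) * v := by
    rw [← h, ← hy]; group
  obtain ⟨l, hl, -, -, -, hlb⟩ := mover_factor hD ha hb hu hv hg
  have hb' : b = (⟨l, hl⟩ : L) * a * (⟨l, hl⟩ : L)⁻¹ := Subtype.ext (by simpa using hlb.symm)
  rw [hb']
  exact hα a ⟨l, hl⟩

theorem dade_eq_zero (hD : DadeHypothesis A L H) {α : L → ℂ} {g : G} (hg : g ∉ support A H) :
    dadeIsometry A L H α g = 0 := by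
  rw [dadeIsometry, dif_neg]
  rintro ⟨a, ha, x, u, hu, h⟩
  exact hg ⟨a, ha, u, hu, x, h⟩

theorem dade_coe [Finite G] (hD : DadeHypothesis A L H) {α : L → ℂ} (hα : IsClassFunction L α)
    {a : L} (ha : (a : G) ∈ A) : dadeIsometry A L H α (a : G) = α a :=
  dade_apply hD hα ha (one_mem _) (x := 1) (by simp)

theorem isClassFunction_dade [Finite G] (hD : DadeHypothesis A L H) {α : L → ℂ}
    (hα : IsClassFunction L α) : IsClassFunction G (dadeIsometry A L H α) := by
  intro g k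
  by_cases hg : g ∈ support A H
  · obtain ⟨a, ha, u, hu, x, hx⟩ := hg
    rw [dade_apply hD hα (a := ⟨a, hD.subset ha⟩) ha hu hx,
      dade_apply hD hα (a := ⟨a, hD.subset ha⟩) ha hu (x := x * k⁻¹) (by rw [← hx]; group)]
  · rw [dade_eq_zero hD hg, dade_eq_zero hD]
    rintro ⟨a, ha, u, hu, x, hx⟩
    exact hg ⟨a, ha, u, hu, x * k, by rw [← hx]; group⟩

end Basic

section Count

variable {G : Type u} [Group G] [Fintype G] {A : Set G} {L : Subgroup G} [Fintype L]
  {H : G → Subgroup G}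

open Classical in
/-- Summing a class function over the support. -/
theorem sum_support (hD : DadeHypothesis A L H) (F : G → ℂ) (hF : IsClassFunction G F) :
    (Nat.card L : ℂ) * ∑ g ∈ Finset.univ.filter (· ∈ support A H), F g =
      (Nat.card G : ℂ) * ∑ a ∈ Finset.univ.filter (fun a : L => (a : G) ∈ A),
        (Nat.card (H (a : G)) : ℂ)⁻¹ *
          ∑ u ∈ Finset.univ.filter (· ∈ H (a : G)), F ((a : G) * u) := by
  set T : Finset (G × L × G) := Finset.univ.filter
    (fun t => (t.2.1 : G) ∈ A ∧ t.2.2 ∈ H (t.2.1 : G)) with hT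
  set f : G × L × G → G := fun t => t.1⁻¹ * ((t.2.1 : G) * t.2.2) * t.1 with hf
  set W : G × L × G → ℂ := fun t => (Nat.card (H (t.2.1 : G)) : ℂ)⁻¹ with hW
  have hmap : ∀ t ∈ T, f t ∈ Finset.univ.filter (· ∈ support A H) := by
    intro t ht
    simp only [hT, Finset.mem_filter, Finset.mem_univ, true_and] at ht ⊢
    exact ⟨_, ht.1, _, ht.2, t.1, by simp only [hf]; group⟩
  have hcalc : ∑ t ∈ T, W t * F (f t) =
      (Nat.card G : ℂ) * ∑ a ∈ Finset.univ.filter (fun a : L => (a : G) ∈ A),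
        (Nat.card (H (a : G)) : ℂ)⁻¹ *
          ∑ u ∈ Finset.univ.filter (· ∈ H (a : G)), F ((a : G) * u) := by
    have h1 : ∀ t : G × L × G, F (f t) = F ((t.2.1 : G) * t.2.2) := fun t => by
      have := hF ((t.2.1 : G) * t.2.2) t.1⁻¹
      rwa [inv_inv] at this
    simp only [h1, hT, hW, Finset.sum_filter, Fintype.sum_prod_type, Finset.mul_sum]
    rw [Finset.sum_const, Finset.card_univ, ← Nat.card_eq_fintype_card, nsmul_eq_mul,
      Finset.mul_sum]
    refine Finset.sum_congr rfl fun a _ => ?_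
    by_cases ha : (a : G) ∈ A
    · rw [if_pos ha, Finset.mul_sum, Finset.mul_sum]
      refine Finset.sum_congr rfl fun u _ => ?_
      by_cases hu : u ∈ H (a : G) <;> simp [ha, hu, mul_assoc]
    · simp [ha]
  rw [← hcalc, ← Finset.sum_fiberwise_of_maps_to hmap, Finset.mul_sum]
  refine Finset.sum_congr rfl fun g hg => ?_
  obtain ⟨a₀, ha₀, u₀, hu₀, x₀, hx₀⟩ := (Finset.mem_filter.1 hg).2
  have hcardfib : (T.filter fun t => f t = g).card = Nat.card L * Nat.card (H a₀) := by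
    rw [Nat.card_eq_fintype_card, Nat.card_eq_fintype_card, ← Fintype.card_prod,
      ← Finset.card_univ]
    symm
    refine Finset.card_bij (fun p _ => (((p.1 : G) * (p.2 : G)) * x₀,
      (p.1 * ⟨a₀, hD.subset ha₀⟩ * p.1⁻¹ : L),
      (p.1 : G) * ((p.2 : G) * u₀ * (p.2 : G)⁻¹) * (p.1 : G)⁻¹)) ?_ ?_ ?_
    · rintro ⟨l, h⟩ -
      simp only [hT, hf, Finset.mem_filter, Finset.mem_univ, true_and, Subgroup.coe_mul,
        Subgroup.coe_inv]
      refine ⟨⟨hD.conj_mem l l.2 a₀ ha₀, H_conj_mem hD ha₀ l.2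
        (hD.conj_mem_H a₀ ha₀ h (hD.le_centralizer a₀ ha₀ h.2) u₀ hu₀)⟩, ?_⟩
      have hc : a₀ * (h : G) = h * a₀ := comm_of_mem hD ha₀ h.2
      calc _ = x₀⁻¹ * ((h : G)⁻¹ * (a₀ * h) * u₀) * x₀ := by group
        _ = x₀⁻¹ * ((h : G)⁻¹ * (h * a₀) * u₀) * x₀ := by rw [hc]
        _ = x₀⁻¹ * (a₀ * u₀) * x₀ := by group
        _ = g := by rw [← hx₀]; group
    · rintro ⟨l, h⟩ - ⟨l', h'⟩ - e
      simp only [Prod.mk.injEq, mul_left_inj] at e
      have e1 : ((l' : G)⁻¹ * l) = h' * (h : G)⁻¹ := by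
        calc (l' : G)⁻¹ * l = (l' : G)⁻¹ * (l * h) * (h : G)⁻¹ := by group
          _ = (l' : G)⁻¹ * (l' * h') * (h : G)⁻¹ := by rw [e.1]
          _ = h' * (h : G)⁻¹ := by group
      have h1 := disjoint_L hD ha₀ (mul_mem h'.2 (inv_mem h.2))
        (e1 ▸ L.mul_mem (inv_mem l'.2) l.2)
      have hh : h = h' := Subtype.ext (mul_inv_eq_one.1 h1).symm
      have hll : l = l' := Subtype.ext (inv_mul_eq_one.1 (e1.trans h1)).symm
      rw [hh, hll]
    · rintro ⟨x, a, u⟩ ht
      simp only [hT, hf, Finset.mem_filter, Finset.mem_univ, true_and] at ht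
      obtain ⟨⟨ha, hu⟩, he⟩ := ht
      have hmv : (x * x₀⁻¹) * (a₀ * u₀) * (x * x₀⁻¹)⁻¹ = (a : G) * u := by
        rw [← hx₀, ← he]; group
      obtain ⟨l, hl, y, hy, hxy, hla⟩ := mover_factor hD ha₀ ha hu₀ hu hmv
      have hc : a₀ * y = y * a₀ := comm_of_mem hD ha₀ hy
      refine ⟨(⟨l, hl⟩, ⟨y, hy⟩), Finset.mem_univ _, ?_⟩
      have hx : l * y * x₀ = x := by rw [← hxy]; group
      have hu' : l * (y * u₀ * y⁻¹) * l⁻¹ = u := by
        refine mul_left_cancel (a := (a : G)) ?_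
        rw [← hmv, ← hla, hxy]
        calc l * a₀ * l⁻¹ * (l * (y * u₀ * y⁻¹) * l⁻¹) = l * (a₀ * y) * u₀ * y⁻¹ * l⁻¹ := by group
          _ = l * (y * a₀) * u₀ * y⁻¹ * l⁻¹ := by rw [hc]
          _ = _ := by group
      simp only [Prod.mk.injEq]
      exact ⟨hx, Subtype.ext (by simpa using hla), hu'⟩
  have hWconst : ∀ t ∈ T.filter (fun t => f t = g),
      W t * F (f t) = (Nat.card (H a₀) : ℂ)⁻¹ * F g := by
    rintro ⟨x, a, u⟩ ht
    simp only [hT, hf, Finset.mem_filter, Finset.mem_univ, true_and] at ht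
    obtain ⟨⟨ha, hu⟩, he⟩ := ht
    have hmv : (x * x₀⁻¹) * (a₀ * u₀) * (x * x₀⁻¹)⁻¹ = (a : G) * u := by
      rw [← hx₀, ← he]; group
    obtain ⟨l, hl, y, hy, -, hla⟩ := mover_factor hD ha₀ ha hu₀ hu hmv
    simp only [hW, hf, he]
    rw [← hla, H_conj hD ha₀ hl, Subgroup.card_map_of_injective (MulAut.conj l).injective]
  rw [Finset.sum_congr rfl hWconst, Finset.sum_const, hcardfib, nsmul_eq_mul, Nat.cast_mul]
  have : (Nat.card (H a₀) : ℂ) ≠ 0 := Nat.cast_ne_zero.2 Nat.card_pos.ne'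
  field_simp

open Classical in
/-- Reciprocity for the Dade map. -/
theorem inner_dade (hD : DadeHypothesis A L H) (α : L → ℂ) (hα : IsClassFunction L α)
    (hαA : ∀ x : L, (x : G) ∉ A → α x = 0) (χ : G → ℂ) (ψ : L → ℂ) (hχ : IsClassFunction G χ)
    (hψ : ∀ a : L, (a : G) ∈ A →
      ψ a = (Nat.card (H a) : ℂ)⁻¹ * ∑ᶠ u ∈ (H a : Set G), χ (a * u)) :
    classInner (dadeIsometry A L H α) χ = classInner α ψ := by
  set F : G → ℂ := fun g => dadeIsometry A L H α g * conj (χ g) with hF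
  have hFc : IsClassFunction G F := fun g k => by
    simp only [hF, isClassFunction_dade hD hα g k, hχ g k]
  have h := sum_support hD F hFc
  have hleft : ∑ g ∈ Finset.univ.filter (· ∈ support A H), F g = ∑ g : G, F g :=
    Finset.sum_subset (Finset.subset_univ _) fun g _ hg => by
      simp only [Finset.mem_filter, Finset.mem_univ, true_and] at hg
      simp [hF, dade_eq_zero hD hg]
  have hright : ∑ a ∈ Finset.univ.filter (fun a : L => (a : G) ∈ A),
      (Nat.card (H (a : G)) : ℂ)⁻¹ *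
        ∑ u ∈ Finset.univ.filter (· ∈ H (a : G)), F ((a : G) * u) =
      ∑ a : L, α a * conj (ψ a) := by
    rw [Finset.sum_filter]
    refine Finset.sum_congr rfl fun a _ => ?_
    split_ifs with ha
    · rw [hψ a ha, map_mul, map_inv₀, Complex.conj_natCast,
        finsum_mem_eq_finite_toFinset_sum _ (Set.toFinite _), map_sum, ← mul_assoc, mul_comm (α a),
        mul_assoc, Finset.mul_sum (a := α a)]
      congr 1
      refine Finset.sum_congr (by ext; simp) fun u hu => ?_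
      have hu' : u ∈ H (a : G) := by simpa using hu
      simp only [hF]
      rw [dade_apply hD hα ha hu' (x := 1) (by simp)]
    · simp [hαA a ha]
  rw [hleft, hright] at h
  have h1 : (Nat.card L : ℂ) ≠ 0 := Nat.cast_ne_zero.2 Nat.card_pos.ne'
  have h2 : (Nat.card G : ℂ) ≠ 0 := Nat.cast_ne_zero.2 Nat.card_pos.ne'
  simp only [classInner]
  field_simp
  linear_combination h

open Classical in
/-- The Dade map is an isometry on class functions supported on `A`. -/
theorem inner_dade_dade (hD : DadeHypothesis A L H) (α β : L → ℂ) (hα : IsClassFunction L α)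
    (hαA : ∀ x : L, (x : G) ∉ A → α x = 0) (hβ : IsClassFunction L β) :
    classInner (dadeIsometry A L H α) (dadeIsometry A L H β) = classInner α β := by
  refine inner_dade hD α hα hαA _ β (isClassFunction_dade hD hβ) fun a ha => ?_
  rw [finsum_mem_eq_finite_toFinset_sum _ (Set.toFinite _),
    Finset.sum_congr rfl (g := fun _ => β a) (fun u hu => dade_apply hD hβ ha
      (by simpa using hu) (x := 1) (by simp)), Finset.sum_const, nsmul_eq_mul]
  have hc : ((Set.toFinite (H (a : G) : Set G)).toFinset).card = Nat.card (H (a : G)) := by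
    rw [← Set.ncard_eq_toFinset_card, ← Nat.card_coe_set_eq]; rfl
  rw [hc, ← mul_assoc, inv_mul_cancel₀ (Nat.cast_ne_zero.2 Nat.card_pos.ne'), one_mul]

end Count

/-- A TI-subset with normalizer `L` gives the Dade hypothesis with trivial `H`. -/
theorem of_TI {G : Type u} [Group G] {A : Set G} (h1 : (1 : G) ∉ A) (hTI : IsTISubset A)
    (hsub : A ⊆ (Subgroup.normalizer A : Set G)) :
    DadeHypothesis A (Subgroup.normalizer A) (fun _ => ⊥) := by
  have key : ∀ a ∈ A, ∀ g : G, g * a * g⁻¹ ∈ A → g ∈ Subgroup.normalizer A := by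
    intro a ha g hg
    by_contra hn
    exact h1 ((hTI g hn a ha hg) ▸ ha)
  have hle : ∀ a ∈ A, Subgroup.centralizer ({a} : Set G) ≤ Subgroup.normalizer A := by
    intro a ha c hc
    refine key a ha c ?_
    rw [← mem_centralizer_singleton.1 hc, mul_inv_cancel_right]
    exact ha
  refine ⟨h1, hsub, fun x hx a ha => (Subgroup.mem_set_normalizer_iff.1 hx a).1 ha,
    fun a ha g hg => ⟨g, key a ha g hg, rfl⟩, fun _ _ => bot_le, ?_, ?_, ?_, ?_⟩
  · intro a _ c _ u hu
    rw [Subgroup.mem_bot.1 hu]; simp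
  · intro a _; exact bot_inf_eq _
  · intro a ha; rw [bot_sup_eq]; exact inf_eq_right.2 (hle a ha)
  · intro a _ b _; simp

end Cfsg.Agent.Coherence.Dade
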