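import Cfsg.Prelude.Def_OddOrderChar
import Cfsg.Agent.Char.Gen
import Cfsg.Agent.Char.Perm

/-!
# Signed irreducible characters, integer spans of characters, partial isometries

Vocabulary lemmas for coherence (`Cfsg.IsCoherent`, `Cfsg.IsCoherenceSystem`).
-/

namespace Cfsg.Agent.Coherence

open scoped ComplexConjugate
open Cfsg.Agent.Char (classInner_add_left classInner_add_right classInner_sub_left
  classInner_sub_right classInner_neg_left classInner_neg_right classInner_smul_left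
  classInner_smul_right classInner_zero_left classInner_zero_right classInner_sum_left
  classInner_sum_right classInner_conj_symm classInner_self_eq classInner_self_eq_zero)

universe u v

/-- An irreducible character up to sign. -/
def SIrr (X : Type u) [Group X] (α : X → ℂ) : Prop :=
  IsIrrCharacter X α ∨ IsIrrCharacter X (-α)

section Signed

variable {X : Type u} [Group X] [Fintype X] {α β γ δ : X → ℂ}

omit [Fintype X] in
theorem SIrr.neg (h : SIrr X α) : SIrr X (-α) := by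
  rcases h with h | h
  · exact Or.inr (by rwa [neg_neg])
  · exact Or.inl h

omit [Fintype X] in
theorem SIrr.exists_eq (h : SIrr X α) :
    ∃ ψ : IrrCharacter X, α = (ψ : X → ℂ) ∨ α = -(ψ : X → ℂ) := by
  rcases h with h | h
  · exact ⟨⟨α, h⟩, Or.inl rfl⟩
  · exact ⟨⟨-α, h⟩, Or.inr (neg_neg α).symm⟩

theorem SIrr.isGeneralized (h : SIrr X α) : IsGeneralizedCharacter X α := by
  rcases h with h | h
  · exact Char.isGeneralized_of_isCharacter (Char.IsIrr.isCharacter h)
  · exact neg_neg α ▸ Char.isGeneralized_neg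
      (Char.isGeneralized_of_isCharacter (Char.IsIrr.isCharacter h))

theorem SIrr.inner_self (h : SIrr X α) : classInner α α = 1 := by
  rcases h with h | h
  · exact Char.classInner_irr_self h
  · have := Char.classInner_irr_self h
    simpa [classInner_neg_left, classInner_neg_right] using this

omit [Fintype X] in
theorem SIrr.apply_one_ne_zero (h : SIrr X α) : α 1 ≠ 0 := by
  rcases h with h | h
  · exact Char.IsIrr.one_ne_zero h
  · simpa using Char.IsIrr.one_ne_zero h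

theorem SIrr.inner_cases (ha : SIrr X α) (hb : SIrr X β) :
    classInner α β = 0 ∨ (α = β ∧ classInner α β = 1) ∨ (α = -β ∧ classInner α β = -1) := by
  obtain ⟨a, ha'⟩ := ha.exists_eq
  obtain ⟨b, hb'⟩ := hb.exists_eq
  by_cases hab : a = b
  · subst hab
    right
    rcases ha' with rfl | rfl <;> rcases hb' with rfl | rfl
    · exact Or.inl ⟨rfl, Char.classInner_irr_self a.2⟩
    · exact Or.inr ⟨(neg_neg _).symm, by rw [classInner_neg_right, Char.classInner_irr_self a.2]⟩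
    · exact Or.inr ⟨rfl, by rw [classInner_neg_left, Char.classInner_irr_self a.2]⟩
    · exact Or.inl ⟨rfl, by rw [classInner_neg_left, classInner_neg_right, neg_neg,
        Char.classInner_irr_self a.2]⟩
  · left
    have h0 := Char.classInner_irr_ne a.2 b.2 fun e => hab (Subtype.ext e)
    rcases ha' with rfl | rfl <;> rcases hb' with rfl | rfl <;>
      simp [classInner_neg_left, classInner_neg_right, h0]

theorem inner_eq_zero_comm (h : classInner α β = 0) : classInner β α = 0 := by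
  rw [← classInner_conj_symm α β, h, map_zero]

theorem signed_cross_aux (hα : SIrr X α) (hβ : SIrr X β) (hγ : SIrr X γ) (hδ : SIrr X δ)
    (u v : ℝ) (hu : u ≠ 0) (hab : classInner α β = 0) (hcd : classInner γ δ = 0)
    (hmix : classInner (α - β) ((u : ℂ) • γ - (v : ℂ) • δ) = 0) (h1 : α 1 = β 1)
    (h2 : (u : ℂ) * γ 1 = (v : ℂ) * δ 1) : classInner α γ = 0 := by
  by_contra hne
  have hu' : (u : ℂ) ≠ 0 := Complex.ofReal_ne_zero.2 hu
  obtain ⟨s, hs, rfl⟩ : ∃ s : ℂ, (s = 1 ∨ s = -1) ∧ α = s • γ := by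
    rcases hα.inner_cases hγ with h | ⟨h, -⟩ | ⟨h, -⟩
    · exact absurd h hne
    · exact ⟨1, Or.inl rfl, by rw [one_smul]; exact h⟩
    · exact ⟨-1, Or.inr rfl, by rw [neg_one_smul]; exact h⟩
  have hs0 : s ≠ 0 := by rcases hs with rfl | rfl <;> norm_num
  have hbg : classInner β γ = 0 := by
    have := inner_eq_zero_comm hab
    rw [classInner_smul_right] at this
    rcases mul_eq_zero.1 this with h | h
    · exact absurd h (by simpa using hs0)
    · exact h
  rw [classInner_sub_left, classInner_sub_right, classInner_sub_right, classInner_smul_right,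
    classInner_smul_right, classInner_smul_right, classInner_smul_right, classInner_smul_left,
    classInner_smul_left, hγ.inner_self, hcd, hbg, Complex.conj_ofReal, Complex.conj_ofReal] at hmix
  simp only [mul_zero, sub_zero, zero_sub, mul_one, sub_neg_eq_add] at hmix
  obtain ⟨t, ht, rfl⟩ : ∃ t : ℂ, (t = 1 ∨ t = -1) ∧ β = t • δ := by
    rcases hβ.inner_cases hδ with h | ⟨h, -⟩ | ⟨h, -⟩
    · rw [h, mul_zero, add_zero] at hmix
      exact absurd hmix (mul_ne_zero hu' hs0)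
    · exact ⟨1, Or.inl rfl, by rw [one_smul]; exact h⟩
    · exact ⟨-1, Or.inr rfl, by rw [neg_one_smul]; exact h⟩
  rw [classInner_smul_left, hδ.inner_self, mul_one] at hmix
  simp only [Pi.smul_apply, smul_eq_mul] at h1
  apply hδ.apply_one_ne_zero
  have hs2 : s ^ 2 = 1 := by rcases hs with rfl | rfl <;> norm_num
  have ht2 : t ^ 2 = 1 := by rcases ht with rfl | rfl <;> norm_num
  have h3 : 2 * (u : ℂ) * t * δ 1 = 0 := by
    linear_combination -(u : ℂ) * h1 + s * h2 + s * t * δ 1 * hmix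
      - (u : ℂ) * t * δ 1 * hs2 - (v : ℂ) * s * δ 1 * ht2
  have ht0 : t ≠ 0 := by rcases ht with rfl | rfl <;> norm_num
  simpa [hu', ht0] using h3

/-- Two orthogonal signed pairs with orthogonal weighted differences vanishing at `1` are
mutually orthogonal. -/
theorem signed_cross (hα : SIrr X α) (hβ : SIrr X β) (hγ : SIrr X γ) (hδ : SIrr X δ)
    (u v : ℝ) (hu : u ≠ 0) (hv : v ≠ 0) (hab : classInner α β = 0) (hcd : classInner γ δ = 0)
    (hmix : classInner (α - β) ((u : ℂ) • γ - (v : ℂ) • δ) = 0) (h1 : α 1 = β 1)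
    (h2 : (u : ℂ) * γ 1 = (v : ℂ) * δ 1) :
    classInner α γ = 0 ∧ classInner α δ = 0 ∧ classInner β γ = 0 ∧ classInner β δ = 0 := by
  have hba := inner_eq_zero_comm hab
  have hdc := inner_eq_zero_comm hcd
  have hmix' : classInner (α - β) ((v : ℂ) • δ - (u : ℂ) • γ) = 0 := by
    rw [← neg_sub ((u : ℂ) • γ), classInner_neg_right, hmix, neg_zero]
  have hmix2 : classInner (β - α) ((u : ℂ) • γ - (v : ℂ) • δ) = 0 := by
    rw [← neg_sub α, classInner_neg_left, hmix, neg_zero]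
  have hmix3 : classInner (β - α) ((v : ℂ) • δ - (u : ℂ) • γ) = 0 := by
    rw [← neg_sub α, classInner_neg_left, hmix', neg_zero]
  exact ⟨signed_cross_aux hα hβ hγ hδ u v hu hab hcd hmix h1 h2,
    signed_cross_aux hα hβ hδ hγ v u hv hab hdc hmix' h1 h2.symm,
    signed_cross_aux hβ hα hγ hδ u v hu hba hcd hmix2 h1.symm h2,
    signed_cross_aux hβ hα hδ hγ v u hv hba hdc hmix3 h1.symm h2.symm⟩

end Signed

section Span

variable {X : Type u}

theorem mem_zspan_of_mem {S : Set (X → ℂ)} {χ : X → ℂ} (h : χ ∈ S) : χ ∈ zspan S :=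
  Submodule.subset_span h

theorem zspan_zero {S : Set (X → ℂ)} : (0 : X → ℂ) ∈ zspan S :=
  Submodule.zero_mem (Submodule.span ℤ S)

theorem zspan_add {S : Set (X → ℂ)} {α β : X → ℂ} (ha : α ∈ zspan S) (hb : β ∈ zspan S) :
    α + β ∈ zspan S :=
  Submodule.add_mem (Submodule.span ℤ S) ha hb

theorem zspan_sub {S : Set (X → ℂ)} {α β : X → ℂ} (ha : α ∈ zspan S) (hb : β ∈ zspan S) :
    α - β ∈ zspan S :=
  Submodule.sub_mem (Submodule.span ℤ S) ha hb

theorem zspan_neg {S : Set (X → ℂ)} {α : X → ℂ} (ha : α ∈ zspan S) : -α ∈ zspan S :=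
  Submodule.neg_mem (Submodule.span ℤ S) ha

theorem zspan_zsmul {S : Set (X → ℂ)} {α : X → ℂ} (n : ℤ) (ha : α ∈ zspan S) : n • α ∈ zspan S :=
  Submodule.smul_mem (Submodule.span ℤ S) n ha

theorem zspan_natCast_smul {S : Set (X → ℂ)} {α : X → ℂ} (n : ℕ) (ha : α ∈ zspan S) :
    (n : ℂ) • α ∈ zspan S := by
  have : (n : ℂ) • α = (n : ℤ) • α := by funext x; simp
  exact this ▸ zspan_zsmul _ ha

theorem zspan_intCast_smul {S : Set (X → ℂ)} {α : X → ℂ} (n : ℤ) (ha : α ∈ zspan S) :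
    (n : ℂ) • α ∈ zspan S := by
  rw [Int.cast_smul_eq_zsmul]; exact zspan_zsmul _ ha

theorem zspan_sum {S : Set (X → ℂ)} {ι : Type*} (s : Finset ι) (f : ι → X → ℂ)
    (h : ∀ i ∈ s, f i ∈ zspan S) : ∑ i ∈ s, f i ∈ zspan S :=
  Submodule.sum_mem (Submodule.span ℤ S) h

theorem zspan_mono {S T : Set (X → ℂ)} (h : S ⊆ T) : zspan S ⊆ zspan T :=
  Submodule.span_mono h

theorem zspan_subset {S : Set (X → ℂ)} {T : Set (X → ℂ)} (h : S ⊆ zspan T) :
    zspan S ⊆ zspan T :=
  fun _ hx => (Submodule.span_le.2 h) hx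

/-- Induction on integer combinations. -/
theorem zspan_induction {S : Set (X → ℂ)} {P : (X → ℂ) → Prop} {α : X → ℂ} (ha : α ∈ zspan S)
    (hmem : ∀ χ ∈ S, P χ) (h0 : P 0) (hadd : ∀ β γ, β ∈ zspan S → γ ∈ zspan S → P β → P γ →
      P (β + γ)) (hsmul : ∀ (n : ℤ) β, β ∈ zspan S → P β → P (n • β)) : P α :=
  Submodule.span_induction (p := fun x _ => P x) hmem h0 hadd hsmul ha

theorem zspanOn_subset {S : Set (X → ℂ)} {A : Set X} : zspanOn S A ⊆ zspan S := fun _ h => h.1

theorem zspanOn_mono {S T : Set (X → ℂ)} {A : Set X} (h : S ⊆ T) : zspanOn S A ⊆ zspanOn T A :=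
  fun _ hx => ⟨zspan_mono h hx.1, hx.2⟩

theorem zspanOn_zero {S : Set (X → ℂ)} {A : Set X} : (0 : X → ℂ) ∈ zspanOn S A :=
  ⟨zspan_zero, fun _ _ => rfl⟩

theorem zspanOn_add {S : Set (X → ℂ)} {A : Set X} {α β : X → ℂ} (ha : α ∈ zspanOn S A)
    (hb : β ∈ zspanOn S A) : α + β ∈ zspanOn S A :=
  ⟨zspan_add ha.1 hb.1, fun x hx => by simp [ha.2 x hx, hb.2 x hx]⟩

theorem zspanOn_sub {S : Set (X → ℂ)} {A : Set X} {α β : X → ℂ} (ha : α ∈ zspanOn S A)
    (hb : β ∈ zspanOn S A) : α - β ∈ zspanOn S A :=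
  ⟨zspan_sub ha.1 hb.1, fun x hx => by simp [ha.2 x hx, hb.2 x hx]⟩

theorem zspanOn_zsmul {S : Set (X → ℂ)} {A : Set X} {α : X → ℂ} (n : ℤ) (ha : α ∈ zspanOn S A) :
    n • α ∈ zspanOn S A :=
  ⟨zspan_zsmul n ha.1, fun x hx => by simp [ha.2 x hx]⟩

theorem mem_zspanOn_compl_one [One X] {S : Set (X → ℂ)} {α : X → ℂ} :
    α ∈ zspanOn S {1}ᶜ ↔ α ∈ zspan S ∧ α 1 = 0 :=
  ⟨fun h => ⟨h.1, h.2 1 (by simp)⟩, fun h => ⟨h.1, fun x hx => by
    rw [Set.notMem_compl_iff, Set.mem_singleton_iff] at hx; exact hx ▸ h.2⟩⟩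

theorem zspan_finset {s : Finset (X → ℂ)} {α : X → ℂ} (ha : α ∈ zspan (↑s : Set (X → ℂ))) :
    ∃ n : (X → ℂ) → ℤ, α = ∑ χ ∈ s, n χ • χ := by
  classical
  refine zspan_induction (P := fun α => ∃ n : (X → ℂ) → ℤ, α = ∑ χ ∈ s, n χ • χ) ha (fun χ hχ => ⟨fun ψ => if ψ = χ then 1 else 0, ?_⟩) ⟨0, by simp⟩
    (fun β γ _ _ ⟨m, hm⟩ ⟨n, hn⟩ => ⟨m + n, ?_⟩) (fun k β _ ⟨m, hm⟩ => ⟨k • m, ?_⟩)
  · have hmem : χ ∈ s := hχ
    simp [ite_smul, hmem]
  · rw [hm, hn, ← Finset.sum_add_distrib]; simp [add_smul]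
  · rw [hm, Finset.smul_sum]; simp [mul_smul]

end Span

section Isometry

variable {L : Type u} [Group L] [Fintype L] {G : Type v} [Group G] [Fintype G]
  {E : Set (L → ℂ)} {τ : (L → ℂ) → (G → ℂ)}

theorem iso_map_zero (h : IsLinearIsometryOn E τ) (h0 : (0 : L → ℂ) ∈ E) : τ 0 = 0 := by
  have := h.2.1 0 h0 0
  simpa using this

theorem iso_map_sub (h : IsLinearIsometryOn E τ) (hE : ∀ α ∈ E, ∀ n : ℤ, n • α ∈ E) {α β : L → ℂ}
    (ha : α ∈ E) (hb : β ∈ E) : τ (α - β) = τ α - τ β := by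
  have h1 : α - β = α + (-1 : ℤ) • β := by simp [sub_eq_add_neg]
  rw [h1, h.1 α ha _ (hE β hb _), h.2.1 β hb]
  simp [sub_eq_add_neg]

theorem iso_map_neg (h : IsLinearIsometryOn E τ) {β : L → ℂ} (hb : β ∈ E) :
    τ (-β) = -τ β := by
  have := h.2.1 β hb (-1)
  simpa using this

theorem iso_zspan_sub {S : Set (L → ℂ)} (h : IsLinearIsometryOn (zspan S) τ) {α β : L → ℂ}
    (ha : α ∈ zspan S) (hb : β ∈ zspan S) : τ (α - β) = τ α - τ β :=
  iso_map_sub h (fun _ h n => zspan_zsmul n h) ha hb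

theorem iso_zspanOn_sub {S : Set (L → ℂ)} {A : Set L} (h : IsLinearIsometryOn (zspanOn S A) τ)
    {α β : L → ℂ} (ha : α ∈ zspanOn S A) (hb : β ∈ zspanOn S A) : τ (α - β) = τ α - τ β :=
  iso_map_sub h (fun _ h n => zspanOn_zsmul n h) ha hb

theorem iso_zspan_natCast {S : Set (L → ℂ)} (h : IsLinearIsometryOn (zspan S) τ) (n : ℕ)
    {α : L → ℂ} (ha : α ∈ zspan S) : τ ((n : ℂ) • α) = (n : ℂ) • τ α := by
  have h1 : (n : ℂ) • α = (n : ℤ) • α := by funext x; simp
  rw [h1, h.2.1 α ha]; funext x; simp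

theorem iso_zspan_sum {S : Set (L → ℂ)} (h : IsLinearIsometryOn (zspan S) τ) {ι : Type*}
    (s : Finset ι) (f : ι → L → ℂ) (hf : ∀ i ∈ s, f i ∈ zspan S) :
    τ (∑ i ∈ s, f i) = ∑ i ∈ s, τ (f i) := by
  classical
  induction s using Finset.induction with
  | empty => simp [iso_map_zero h zspan_zero]
  | insert a s ha ih =>
    rw [Finset.sum_insert ha, Finset.sum_insert ha,
      h.1 _ (hf a (Finset.mem_insert_self a s)) _
        (zspan_sum s f fun i hi => hf i (Finset.mem_insert_of_mem hi)),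
      ih fun i hi => hf i (Finset.mem_insert_of_mem hi)]

theorem IsLinearIsometryOn.mono {E' : Set (L → ℂ)} (h : IsLinearIsometryOn E τ) (hE : E' ⊆ E) :
    IsLinearIsometryOn E' τ :=
  ⟨fun α ha β hb => h.1 α (hE ha) β (hE hb), fun α ha n => h.2.1 α (hE ha) n,
    fun α ha β hb => h.2.2.1 α (hE ha) β (hE hb), fun α ha => h.2.2.2 α (hE ha)⟩

/-- The ℂ-linear map sending each member `χ` of an orthogonal family to `f χ`. -/
noncomputable def extendMap (S : Finset (L → ℂ)) (f : (L → ℂ) → (G → ℂ)) (α : L → ℂ) : G → ℂ :=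
  ∑ χ ∈ S, (classInner α χ / classInner χ χ) • f χ

omit [Group G] [Fintype G] in
theorem extendMap_apply_mem {S : Finset (L → ℂ)} (horth : ∀ χ ∈ S, ∀ φ ∈ S, χ ≠ φ →
    classInner χ φ = 0) (hne : ∀ χ ∈ S, χ ≠ 0) (f : (L → ℂ) → (G → ℂ)) {χ : L → ℂ} (hχ : χ ∈ S) :
    extendMap S f χ = f χ := by
  rw [extendMap, Finset.sum_eq_single χ]
  · rw [div_self (fun h => hne χ hχ ((classInner_self_eq_zero χ).1 h)), one_smul]
  · intro φ hφ hne'
    rw [horth χ hχ φ hφ (Ne.symm hne'), zero_div, zero_smul]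
  · exact fun h => absurd hχ h

omit [Group G] [Fintype G] in
theorem extendMap_add (S : Finset (L → ℂ)) (f : (L → ℂ) → (G → ℂ)) (α β : L → ℂ) :
    extendMap S f (α + β) = extendMap S f α + extendMap S f β := by
  simp [extendMap, classInner_add_left, add_div, add_smul, Finset.sum_add_distrib]

omit [Group G] [Fintype G] in
theorem extendMap_zsmul (S : Finset (L → ℂ)) (f : (L → ℂ) → (G → ℂ)) (n : ℤ) (α : L → ℂ) :
    extendMap S f (n • α) = n • extendMap S f α := by
  simp only [← Int.cast_smul_eq_zsmul ℂ]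
  simp [extendMap, classInner_smul_left, mul_div_assoc, Finset.smul_sum, mul_smul]

/-- Extension of a map on an orthogonal family to an isometry on its integer combinations. -/
theorem exists_isometry_of_basis {S : Finset (L → ℂ)} (horth : ∀ χ ∈ S, ∀ φ ∈ S, χ ≠ φ →
    classInner χ φ = 0) (hne : ∀ χ ∈ S, χ ≠ 0) (f : (L → ℂ) → (G → ℂ))
    (hgen : ∀ χ ∈ S, IsGeneralizedCharacter G (f χ))
    (hinner : ∀ χ ∈ S, ∀ φ ∈ S, classInner (f χ) (f φ) = classInner χ φ) :
    ∃ τ₁ : (L → ℂ) → (G → ℂ), IsLinearIsometryOn (zspan (↑S : Set (L → ℂ))) τ₁ ∧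
      ∀ χ ∈ S, τ₁ χ = f χ := by
  have key : ∀ {α : L → ℂ}, α ∈ zspan (↑S : Set (L → ℂ)) → ∃ n : (L → ℂ) → ℤ,
      α = ∑ χ ∈ S, n χ • χ ∧ extendMap S f α = ∑ χ ∈ S, n χ • f χ := by
    intro α ha
    obtain ⟨n, hn⟩ := zspan_finset ha
    refine ⟨n, hn, ?_⟩
    have hz : extendMap S f 0 = 0 := by simp [extendMap, classInner_zero_left]
    have hs : ∀ t : Finset (L → ℂ),
        extendMap S f (∑ χ ∈ t, n χ • χ) = ∑ χ ∈ t, n χ • extendMap S f χ := by
      classical
      intro t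
      induction t using Finset.induction with
      | empty => simp [hz]
      | insert a t ha ih => rw [Finset.sum_insert ha, Finset.sum_insert ha, extendMap_add,
          extendMap_zsmul, ih]
    rw [hn, hs]
    exact Finset.sum_congr rfl fun χ hχ => by rw [extendMap_apply_mem horth hne f hχ]
  refine ⟨extendMap S f, ⟨fun α _ β _ => extendMap_add S f α β,
    fun α _ n => extendMap_zsmul S f n α, fun α ha β hb => ?_, fun α ha => ?_⟩,
    fun χ hχ => extendMap_apply_mem horth hne f hχ⟩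
  · obtain ⟨m, hm, hm'⟩ := key ha
    obtain ⟨n, hn, hn'⟩ := key hb
    rw [hm', hn', hm, hn]
    simp only [← Int.cast_smul_eq_zsmul ℂ, classInner_sum_left, classInner_sum_right,
      classInner_smul_left, classInner_smul_right, Finset.mul_sum]
    exact Finset.sum_congr rfl fun φ hφ => Finset.sum_congr rfl fun χ hχ => by
      rw [hinner χ hχ φ hφ]
  · obtain ⟨m, -, hm'⟩ := key ha
    rw [hm']
    exact Char.isGeneralized_sum S _ fun χ hχ => by
      rw [← Int.cast_smul_eq_zsmul ℂ]; exact Char.isGeneralized_intCast_smul _ (hgen χ hχ)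

end Isometry



section Decomp

variable {X : Type u} [Group X] [Fintype X]

/-- A generalized character of norm two vanishing at `1` is a difference of two irreducible
characters. -/
theorem norm_two_decomp {θ : X → ℂ} (h : IsGeneralizedCharacter X θ) (h2 : classInner θ θ = 2)
    (h1 : θ 1 = 0) :
    ∃ μ ν : IrrCharacter X, μ ≠ ν ∧ θ = (μ : X → ℂ) - (ν : X → ℂ) := by
  classical
  obtain ⟨m, -, he, hn⟩ := Char.IsGen.exists_mult h
  rw [h2] at hn
  have hs : ∑ ψ, m ψ ^ 2 = 2 := by exact_mod_cast hn.symm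
  have hm1 : ∀ ψ, m ψ ≠ 0 → m ψ = 1 ∨ m ψ = -1 := by
    intro ψ hψ
    have h3 : m ψ ^ 2 ≤ 2 := hs ▸ Finset.single_le_sum (fun i _ => sq_nonneg (m i)) (Finset.mem_univ ψ)
    have h4 : -1 ≤ m ψ := by nlinarith
    have h5 : m ψ ≤ 1 := by nlinarith
    omega
  set T := Finset.univ.filter fun ψ : IrrCharacter X => m ψ ≠ 0 with hT
  have hcard : T.card = 2 := by
    have : ∑ ψ, m ψ ^ 2 = ∑ ψ : IrrCharacter X, if m ψ ≠ 0 then (1 : ℤ) else 0 := by
      refine Finset.sum_congr rfl fun ψ _ => ?_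
      by_cases hψ : m ψ = 0
      · simp [hψ]
      · rcases hm1 ψ hψ with e | e <;> simp [e]
    rw [hs, ← Finset.sum_filter, Finset.sum_const, ← hT, nsmul_eq_mul, mul_one] at this
    exact_mod_cast this.symm
  obtain ⟨a, b, hab, hTab⟩ := Finset.card_eq_two.1 hcard
  have hθ : θ = (m a : ℂ) • (a : X → ℂ) + (m b : ℂ) • (b : X → ℂ) := by
    rw [he, ← Finset.sum_subset (Finset.subset_univ T) (fun ψ _ hψ => by
      simp only [hT, Finset.mem_filter, Finset.mem_univ, true_and, not_not] at hψ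
      simp [hψ]), hTab, Finset.sum_pair hab]
  have ha : m a ≠ 0 := (Finset.mem_filter.1 (hTab ▸ Finset.mem_insert_self a {b} : a ∈ T)).2
  have hb : m b ≠ 0 := (Finset.mem_filter.1
    (hTab ▸ Finset.mem_insert_of_mem (Finset.mem_singleton_self b) : b ∈ T)).2
  obtain ⟨da, hda, eda⟩ := Char.IsIrr.degree a.2
  obtain ⟨db, hdb, edb⟩ := Char.IsIrr.degree b.2
  have h0 : m a * (da : ℤ) + m b * (db : ℤ) = 0 := by
    have := h1
    rw [hθ] at this
    simp only [Pi.add_apply, Pi.smul_apply, smul_eq_mul, eda, edb] at this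
    exact_mod_cast this
  rcases hm1 a ha with ea | ea <;> rcases hm1 b hb with eb | eb
  · exfalso; rw [ea, eb] at h0; omega
  · exact ⟨a, b, hab, by rw [hθ, ea, eb]; simp [sub_eq_add_neg]⟩
  · exact ⟨b, a, hab.symm, by rw [hθ, ea, eb]; simp [sub_eq_add_neg, add_comm]⟩
  · exfalso; rw [ea, eb] at h0; omega

omit [Fintype X] in
theorem isIrr_conjFun [Finite X] {χ : X → ℂ} (h : IsIrrCharacter X χ) :
    IsIrrCharacter X (conjFun χ) :=
  (Char.conjIrr ⟨χ, h⟩).2

omit [Group X] [Fintype X] in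
@[simp] theorem conjFun_conjFun (χ : X → ℂ) : conjFun (conjFun χ) = χ :=
  funext fun x => by simp [conjFun]

theorem classInner_conjFun (φ ψ : X → ℂ) :
    classInner (conjFun φ) (conjFun ψ) = classInner ψ φ := by
  simp [classInner, conjFun, mul_comm]

omit [Fintype X] in
theorem isChar_conjFun_one {χ : X → ℂ} (h : IsCharacter X χ) : conjFun χ 1 = χ 1 := by
  obtain ⟨n, hn⟩ := Char.IsChar.degree h
  simp [conjFun, hn]

omit [Fintype X] in
theorem sub_conjFun_mem {S : Set (X → ℂ)} {χ : X → ℂ} (h : IsCharacter X χ) (hm : χ ∈ S)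
    (hc : conjFun χ ∈ S) : χ - conjFun χ ∈ zspanOn S {1}ᶜ :=
  mem_zspanOn_compl_one.2 ⟨zspan_sub (mem_zspan_of_mem hm) (mem_zspan_of_mem hc), by
    simp [isChar_conjFun_one h]⟩

theorem irr_set_finite {S : Set (X → ℂ)} (h : ∀ χ ∈ S, IsIrrCharacter X χ) : S.Finite :=
  (Set.finite_range (fun χ : IrrCharacter X => (χ : X → ℂ))).subset
    fun χ hχ => ⟨⟨χ, h χ hχ⟩, rfl⟩

/-- Orthogonal nonzero class functions form a finite family. -/
theorem orth_set_finite {S : Set (X → ℂ)} (horth : ∀ χ ∈ S, ∀ φ ∈ S, χ ≠ φ → classInner χ φ = 0)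
    (hne : ∀ χ ∈ S, χ ≠ 0) : S.Finite := by
  have hli : LinearIndependent ℂ (fun χ : S => (χ : X → ℂ)) := by
    classical
    rw [linearIndependent_iff']
    intro t c hc i hi
    have h := congrArg (fun f => classInner f (i : X → ℂ)) hc
    simp only [classInner_sum_left, classInner_smul_left, classInner_zero_left] at h
    rw [Finset.sum_eq_single i] at h
    · exact (mul_eq_zero.1 h).resolve_right fun h0 => hne _ i.2 ((classInner_self_eq_zero _).1 h0)
    · intro j _ hj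
      rw [horth _ j.2 _ i.2 (fun e => hj (Subtype.ext e)), mul_zero]
    · exact fun h' => absurd hi h'
  exact Set.finite_coe_iff.1 hli.finite

end Decomp

end Cfsg.Agent.Coherence
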