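import Cfsg.Agent.FixedPointFree.Prime
import Cfsg.Agent.Fusion.ThompsonComplement

/-!
# Thompson's theorem on fixed-point-free automorphisms of prime order

`isNilpotent_of_fpf_prime`: a finite subgroup normalised by an element of prime order acting on it
without fixed points is nilpotent (no solvability hypothesis).
-/

set_option autoImplicit false

open Subgroup
open scoped Pointwise

namespace Cfsg.Agent.Coherence

universe u

/-- A finite nilpotent group has a normal `q`-complement. -/
theorem hasNormalPComplement_of_isNilpotent {G : Type u} [Group G] [Finite G]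
    (h : Group.IsNilpotent G) (q : ℕ) [hq : Fact q.Prime] : HasNormalPComplement q G := by
  by_cases hqG : q ∣ Nat.card G
  swap
  · exact Fusion.hasNormalPComplement_of_coprime
      ((hq.out.coprime_iff_not_dvd.2 hqG).symm)
  have hn : ∀ {l : ℕ} [Fact l.Prime] (P : Sylow l G), (P : Subgroup G).Normal :=
    fun {l} _ P => (Group.isNilpotent_of_finite_tfae.out 0 3 rfl rfl).mp h l inferInstance P
  obtain ⟨P⟩ : Nonempty (Sylow q G) := inferInstance
  let e := Sylow.directProductOfNormal (G := G) hn
  let j : (Nat.card G).primeFactors :=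
    ⟨q, Nat.mem_primeFactors.2 ⟨hq.out, hqG, Nat.card_pos.ne'⟩⟩
  let f : G →* ((Q : Sylow q G) → (↑Q : Subgroup G)) :=
    (Pi.evalMonoidHom (fun p : (Nat.card G).primeFactors =>
      (Q : Sylow p G) → (↑Q : Subgroup G)) j).comp e.symm.toMonoidHom
  have hf : Function.Surjective f := (Function.surjective_eval j).comp e.symm.surjective
  let g : G →* (P : Subgroup G) :=
    (Pi.evalMonoidHom (fun Q : Sylow q G => (↑Q : Subgroup G)) P).comp f
  have hg : Function.Surjective g := (Function.surjective_eval P).comp hf
  have hidx : g.ker.index = Nat.card (P : Subgroup G) := by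
    rw [index_ker, MonoidHom.range_eq_top.2 hg, card_top]
  obtain ⟨n, hn'⟩ := P.2.exists_card_eq
  refine Fusion.hasNormalPComplement_iff_exists.2 ⟨g.ker, inferInstance, ?_, n, hidx.trans hn'⟩
  have h1 := g.ker.card_mul_index
  rw [hidx, ← (P : Subgroup G).card_mul_index, mul_comm] at h1
  rw [Nat.eq_of_mul_eq_mul_left Nat.card_pos h1]
  exact ((hq.out.coprime_iff_not_dvd.2 P.not_dvd_index).symm)

/-- Thompson's theorem, by induction on the order. -/
theorem isNilpotent_of_fpf_aux {p : ℕ} (hp : p.Prime) :
    ∀ n : ℕ, ∀ {Δ : Type u} [Group Δ] [Finite Δ] (L : Subgroup Δ) (c : Δ), c ^ p = 1 →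
      c ∈ normalizer (L : Set Δ) → L ⊓ centralizer {c} = ⊥ → Nat.card L ≤ n →
      Group.IsNilpotent L := by
  intro n
  induction n with
  | zero => intro Δ _ _ L c _ _ _ h; exact absurd h (by have := Nat.card_pos (α := L); omega)
  | succ n ih =>
    intro Δ _ _ L c hc hcL hfix hn
    have hrec : ∀ K : Subgroup Δ, K < L → c ∈ normalizer (K : Set Δ) → Group.IsNilpotent K := by
      intro K hKL hcK
      refine ih K c hc hcK (FixedPointFree.fixed_mono hfix hKL.le) ?_
      have : Nat.card K < Nat.card L := lt_of_le_of_ne (card_le_of_le hKL.le)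
        fun e => hKL.ne (eq_of_le_of_card_ge hKL.le e.ge)
      omega
    by_cases hodd : ∃ q : ℕ, q.Prime ∧ q ≠ 2 ∧ q ∣ Nat.card L
    swap
    · push_neg at hodd
      have : Fact (Nat.Prime 2) := ⟨Nat.prime_two⟩
      have h2 : IsPGroup 2 L := IsPGroup.of_card (n := (Nat.card L).factorization 2) (by
        refine Nat.eq_of_factorization_eq Nat.card_pos.ne' (by positivity) fun r => ?_
        rw [Nat.prime_two.factorization_pow, Finsupp.single_apply]
        split_ifs with h
        · rw [h]
        · rw [Nat.factorization_eq_zero_iff]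
          by_cases hr : r.Prime
          · exact Or.inr (Or.inl fun hd => hodd r hr (Ne.symm h) hd)
          · exact Or.inl hr)
      exact h2.isNilpotent
    obtain ⟨q, hq, hq2, hqL⟩ := hodd
    have := Fact.mk hq
    have hcP : zpowers c ≤ normalizer (L : Set Δ) := zpowers_le.2 hcL
    have hfix' : L ⊓ centralizer ((zpowers c : Subgroup Δ) : Set Δ) = ⊥ := by
      rwa [FixedPointFree.centralizer_zpowers]
    have hcp := Fact.mk hp
    have hpc : IsPGroup p (zpowers c) := FixedPointFree.isPGroup_zpowers hc
    have hsc : Group.IsSolvable (zpowers c) := by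
      have := hpc.isNilpotent
      infer_instance
    have hcop := FixedPointFree.coprime_of_fixed hp hpc hcP hfix'
    obtain ⟨S, hS⟩ := Coprime.exists_invariant_sylow (p := q) hcP hcop (Or.inl hsc)
    set P := (S : Subgroup L).map L.subtype with hP
    have hPq : IsPGroup q P := S.2.map L.subtype
    have hP1 : P ≠ ⊥ := by
      rw [hP]
      intro h
      rw [map_eq_bot_iff_of_injective _ L.subtype_injective] at h
      exact S.ne_bot_of_dvd_card hqL h
    set J := thompsonSubgroupOf q P with hJ
    set Z := P ⊓ centralizer (P : Set Δ) with hZ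
    have hcP' : c ∈ normalizer (P : Set Δ) := hS (mem_zpowers c)
    have hcJ : c ∈ normalizer (J : Set Δ) := Fusion.mem_normalizer_thompsonSubgroupOf hcP'
    have hcZ : c ∈ normalizer (Z : Set Δ) := by
      have hmap := mem_normalizer_iff_map_conj_eq.1 hcP'
      rw [mem_normalizer_iff_map_conj_eq, hZ]
      have h := Fusion.map_inf_centralizer_of_inf_ker (MulAut.conj c).toMonoidHom (U := P) (by
        rw [eq_bot_iff]; rintro x ⟨-, hx⟩; exact (MulAut.conj c).injective (hx.trans (map_one _).symm))
      exact h.trans (by simp only [MulEquiv.toMonoidHom_eq_coe, hmap])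
    have hinv : ∀ W : Subgroup Δ, c ∈ normalizer (W : Set Δ) →
        c ∈ normalizer ((centralizer (W : Set Δ) : Subgroup Δ) : Set Δ) := by
      intro W hW
      rw [mem_normalizer_iff]
      intro x
      simp only [mem_centralizer_iff, SetLike.mem_coe]
      constructor
      · intro hx w hw
        have h1 := hx (c⁻¹ * w * c) (by
          rw [mem_normalizer_iff] at hW
          rw [hW]; simpa [mul_assoc] using hw)
        calc w * (c * x * c⁻¹) = c * ((c⁻¹ * w * c) * x) * c⁻¹ := by group
          _ = c * (x * (c⁻¹ * w * c)) * c⁻¹ := by rw [h1]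
          _ = c * x * c⁻¹ * w := by group
      · intro hx w hw
        have h1 := hx (c * w * c⁻¹) ((mem_normalizer_iff.1 hW w).1 hw)
        calc w * x = c⁻¹ * ((c * w * c⁻¹) * (c * x * c⁻¹)) * c := by group
          _ = c⁻¹ * ((c * x * c⁻¹) * (c * w * c⁻¹)) * c := by rw [h1]
          _ = x * w := by group
    have hinv' : ∀ W : Subgroup Δ, c ∈ normalizer (W : Set Δ) →
        c ∈ normalizer ((normalizer (W : Set Δ) : Subgroup Δ) : Set Δ) :=
      fun W hW => le_normalizer hW
    -- a nontrivial `q`-subgroup of `L`, invariant under `L` and `c`, forces solvability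
    have hsolv_of : ∀ U : Subgroup Δ, U ≠ ⊥ → U ≤ P → L ≤ normalizer (U : Set Δ) →
        c ∈ normalizer (U : Set Δ) → Group.IsSolvable L := by
      intro U hU hUP hLU hcU
      have hUL : U ≤ L := hUP.trans (map_subtype_le _)
      set D := normalizer (U : Set Δ) with hD
      set U' := U.subgroupOf D
      set L' := L.subgroupOf D
      have : U'.Normal := normal_subgroupOf_of_le_normalizer (le_refl _)
      let π := QuotientGroup.mk' U'
      let c' : D := ⟨c, hcU⟩
      have hc' : c' ^ p = 1 := Subtype.ext (by simpa [c'] using hc)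
      have hcL' : c' ∈ normalizer (L' : Set D) := by
        rw [mem_normalizer_iff]
        intro x
        simp only [L', mem_subgroupOf]
        exact mem_normalizer_iff.1 hcL _
      have hfixD : L' ⊓ centralizer {c'} = ⊥ := by
        rw [eq_bot_iff]
        rintro x ⟨hx, hxc⟩
        have h1 : Commute c (x : Δ) := by
          have := congrArg Subtype.val (mem_centralizer_singleton_iff.mp hxc)
          exact (show Commute (x : Δ) c from this).symm
        exact mem_bot.mpr (Subtype.ext (FixedPointFree.eq_one_of_fixed hfix hx h1))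
      have hker : π.ker ≤ L' := by
        rw [QuotientGroup.ker_mk']; exact fun x hx => hUL hx
      have hfixQ : L'.map π ⊓ centralizer {π c'} = ⊥ := by
        have h := FixedPointFree.fixed_map_eq_bot π hp (FixedPointFree.isPGroup_zpowers hc')
          (zpowers_le.2 hcL') hker (by rwa [FixedPointFree.centralizer_zpowers])
        rwa [MonoidHom.map_zpowers, FixedPointFree.centralizer_zpowers] at h
      have hU'1 : U' ≠ ⊥ := by
        rw [ne_eq, subgroupOf_eq_bot, disjoint_iff, inf_eq_left.2 le_normalizer]
        exact hU
      have hlt := FixedPointFree.card_map_quotient_lt (V := U') (L := L')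
        (fun x hx => hUL hx) hU'1
      rw [Coprime.card_subgroupOf hLU] at hlt
      have hnil : Group.IsNilpotent (L'.map π) := by
        refine ih _ (π c') (by rw [← map_pow, hc', map_one]) ?_ hfixQ
          (Nat.lt_succ_iff.mp (hlt.trans_le hn))
        exact le_normalizer_map π ⟨c', hcL', rfl⟩
      have hUs : Group.IsSolvable U' := by
        have : IsPGroup q U' := (hPq.to_le hUP).comap_subtype
        have := this.isNilpotent
        infer_instance
      have hL's : Group.IsSolvable L' := by
        let f := π.subgroupMap L'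
        have hk : f.ker = U'.subgroupOf L' := by
          ext x
          rw [MonoidHom.mem_ker, mem_subgroupOf, ← QuotientGroup.eq_one_iff]
          exact ⟨fun h => congrArg Subtype.val h, fun h => Subtype.ext h⟩
        have h1 : Group.IsSolvable f.ker := hk ▸ Coprime.isSolvable_subgroupOf L' hUs
        have h2 : Group.IsSolvable (L'.map π) := by infer_instance
        exact Group.isSolvable_of_ker_le_range f.ker.subtype f (by simp)
      exact Coprime.isSolvable_of_subgroupOf hLU hL's
    refine FixedPointFree.isNilpotent_of_fpf hp hc hcL ?_ hfix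
    by_cases hN1 : L ≤ normalizer (J : Set Δ)
    · exact hsolv_of J (Fusion.thompsonSubgroupOf_ne_bot hPq hP1) (map_subtype_le _) hN1 hcJ
    have hZ1 : Z ≠ ⊥ := by
      intro hbot
      have : Nontrivial P := (nontrivial_iff_ne_bot P).2 hP1
      have := IsPGroup.center_nontrivial hPq
      obtain ⟨z, hz⟩ := exists_ne (1 : center P)
      refine hz (Subtype.ext (Subtype.ext ?_))
      have hmem : ((z : P) : Δ) ∈ Z := ⟨(z : P).2, fun y hy =>
        congrArg Subtype.val (mem_center_iff.1 z.2 ⟨y, hy⟩)⟩
      rw [hbot, mem_bot] at hmem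
      simpa using hmem
    by_cases hN2 : L ≤ centralizer (Z : Set Δ)
    · refine hsolv_of Z hZ1 inf_le_left ?_ hcZ
      intro x hx
      rw [mem_normalizer_iff]
      intro z
      constructor
      · intro hz
        have : z * x = x * z := hN2 hx z hz
        rwa [← this, mul_inv_cancel_right]
      · intro hz
        have h : (x * z * x⁻¹) * x = x * (x * z * x⁻¹) := hN2 hx _ hz
        have h' : z = x * z * x⁻¹ := by
          calc z = x⁻¹ * ((x * z * x⁻¹) * x) := by group
            _ = x⁻¹ * (x * (x * z * x⁻¹)) := by rw [h]
            _ = x * z * x⁻¹ := by group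
        rw [h']; exact hz
    -- both local subgroups are nilpotent, so `L` has a normal `q`-complement
    have hloc : ∀ W : Subgroup Δ, c ∈ normalizer (W : Set Δ) → ¬ L ≤ W →
        HasNormalPComplement q (W.subgroupOf L) := by
      intro W hW hLW
      have hlt : L ⊓ W < L := lt_of_le_of_ne inf_le_left fun e => hLW (e ▸ inf_le_right)
      have hnil : Group.IsNilpotent (L ⊓ W : Subgroup Δ) := hrec _ hlt (by
        rw [mem_normalizer_iff] at hcL hW ⊢
        exact fun x => and_congr (hcL x) (hW x))
      have e : W.subgroupOf L = (L ⊓ W).subgroupOf L := by rw [inf_subgroupOf_left]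
      rw [e]
      exact hasNormalPComplement_of_isNilpotent
        ((Group.isNilpotent_congr (subgroupOfEquivOfLe inf_le_left)).2 hnil) q
    have hinj : ∀ U : Subgroup L, U ⊓ L.subtype.ker = ⊥ := fun U => by simp
    have hNL : HasNormalPComplement q L := by
      refine Fusion.hasNormalPComplement_of_thompson hq2 S ?_ ?_
      · refine Fusion.hasNormalPComplement_of_le ?_ (hloc _ (hinv' J hcJ) hN1)
        intro x hx
        rw [mem_subgroupOf]
        have := le_normalizer_map L.subtype ⟨x, hx, rfl⟩
        rwa [Fusion.thompsonSubgroupOf_map_of_inf_ker _ (hinj _)] at this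
      · refine Fusion.hasNormalPComplement_of_le ?_ (hloc _ (hinv Z hcZ) hN2)
        intro x hx
        rw [mem_subgroupOf]
        intro z hz
        rw [hZ, SetLike.mem_coe, hP, ← Fusion.map_inf_centralizer_of_inf_ker _ (hinj _)] at hz
        obtain ⟨z', hz', rfl⟩ := hz
        exact congrArg Subtype.val (hx z' hz')
    set K := (pResidual q L).map L.subtype with hK
    have hKL : K < L := by
      refine lt_of_le_of_ne (map_subtype_le _) fun e => ?_
      have hcc := Fusion.coprime_card_pResidual_of_hasNormalPComplement hNL
      rw [← card_map_of_injective L.subtype_injective, ← hK, e] at hcc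
      exact (hq.coprime_iff_not_dvd.1 hcc.symm) hqL
    have hcK : c ∈ normalizer (K : Set Δ) := by
      have hmem : ∀ x : Δ, x ∈ K ↔ x ∈ L ∧ Nat.Coprime (orderOf x) q := by
        intro x
        constructor
        · rintro ⟨y, hy, rfl⟩
          exact ⟨y.2, by
            simpa [orderOf_coe] using (Fusion.mem_pResidual_iff hNL).1 hy⟩
        · rintro ⟨hx, hxq⟩
          exact ⟨⟨x, hx⟩, (Fusion.mem_pResidual_iff hNL).2 (by
            rwa [← orderOf_coe (⟨x, hx⟩ : L)]), rfl⟩
      rw [mem_normalizer_iff]
      intro x
      rw [hmem, hmem, ← MulAut.conj_apply c x, MulEquiv.orderOf_eq]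
      exact and_congr_left' (mem_normalizer_iff.1 hcL x)
    have hKs : Group.IsSolvable (pResidual q L) := by
      have := hrec K hKL hcK
      have hs : Group.IsSolvable K := inferInstance
      exact Group.isSolvable_of_isSolvable_injective
        (f := ((pResidual q L).equivMapOfInjective L.subtype L.subtype_injective).toMonoidHom)
        (MulEquiv.injective _)
    have hQs : Group.IsSolvable (L ⧸ pResidual q L) := by
      obtain ⟨k, hk⟩ := Fusion.index_pResidual_eq_pow (G := L) (p := q)
      have hpg : IsPGroup q (L ⧸ pResidual q L) :=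
        IsPGroup.of_card (n := k) (by rw [← index_eq_card, hk])
      have := hpg.isNilpotent
      infer_instance
    exact Group.isSolvable_of_ker_le_range (pResidual q L).subtype
      (QuotientGroup.mk' (pResidual q L)) (by simp)

/-- **Thompson's theorem**: a finite subgroup with a fixed-point-free automorphism of prime order,
induced by conjugation, is nilpotent. -/
theorem isNilpotent_of_fpf_prime {Γ : Type u} [Group Γ] [Finite Γ] {p : ℕ} (hp : p.Prime)
    {L : Subgroup Γ} {c : Γ} (hc : c ^ p = 1) (hcL : c ∈ normalizer (L : Set Γ))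
    (hfix : L ⊓ centralizer {c} = ⊥) : Group.IsNilpotent L :=
  isNilpotent_of_fpf_aux hp (Nat.card L) L c hc hcL hfix le_rfl

end Cfsg.Agent.Coherence
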