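import Cfsg.Agent.Char.Perm

/-!
# Characters and classes of a normal subgroup fixed by an element
-/

namespace Cfsg.Agent.Coherence

universe u

/-- An element fixes a nonprincipal irreducible character of a normal subgroup iff it fixes a
nontrivial conjugacy class of it. -/
theorem fixed_irr_iff_fixed_class {M : Type u} [Group M] [Finite M] (H : Subgroup M)
    [hN : H.Normal] (x : M) :
    (∃ θ : H → ℂ, IsIrrCharacter H θ ∧ θ ≠ (fun _ => 1) ∧ Char.conjFun x θ = θ) ↔
      ∃ h : H, h ≠ 1 ∧ IsConj ((MulAut.conjNormal x : MulAut H) h) h := by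
  classical
  set σ : IrrCharacter H → IrrCharacter H := fun χ => ⟨_, Char.isIrr_conjFun x χ.2⟩
  set τ : ConjClasses H → ConjClasses H :=
    ConjClasses.map (MulAut.conjNormal x : MulAut H).toMonoidHom
  have hmk : ∀ g : H, τ (ConjClasses.mk g) = ConjClasses.mk ((MulAut.conjNormal x : MulAut H) g) :=
    fun g => rfl
  have hcard := Char.brauer_permutation σ τ fun χ g g' hg => by
    rw [hmk, ConjClasses.mk_eq_mk_iff_isConj] at hg
    exact Char.classFun_isConj (Char.isClassFunction_of_isIrr χ.2) hg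
  have : Finite (ConjClasses H) := Quotient.finite _
  let one : {χ : IrrCharacter H // σ χ = χ} := ⟨⟨_, Char.isIrrCharacter_one⟩, Subtype.ext rfl⟩
  let c1 : {C : ConjClasses H // τ C = C} :=
    ⟨ConjClasses.mk 1, by rw [hmk, map_one]⟩
  have hiff : Nontrivial {χ : IrrCharacter H // σ χ = χ} ↔
      Nontrivial {C : ConjClasses H // τ C = C} := by
    rw [← Finite.one_lt_card_iff_nontrivial, ← Finite.one_lt_card_iff_nontrivial, hcard]
  constructor
  · rintro ⟨θ, hθ, hne, hfix⟩
    have : Nontrivial {χ : IrrCharacter H // σ χ = χ} :=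
      ⟨⟨⟨θ, hθ⟩, Subtype.ext hfix⟩, one, fun e => hne (congrArg (fun z => z.1.1) e)⟩
    have := hiff.1 this
    obtain ⟨⟨C, hC⟩, hCne⟩ := exists_ne c1
    obtain ⟨h, rfl⟩ := ConjClasses.mk_surjective C
    rw [hmk, ConjClasses.mk_eq_mk_iff_isConj] at hC
    exact ⟨h, fun e => hCne (Subtype.ext (congrArg ConjClasses.mk e)), hC⟩
  · rintro ⟨h, hne, hconj⟩
    have : Nontrivial {C : ConjClasses H // τ C = C} :=
      ⟨⟨ConjClasses.mk h, by rw [hmk]; exact ConjClasses.mk_eq_mk_iff_isConj.2 hconj⟩, c1,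
        fun e => hne (isConj_one_right.1
          (ConjClasses.mk_eq_mk_iff_isConj.1 (congrArg Subtype.val e).symm))⟩
    have := hiff.2 this
    obtain ⟨⟨⟨θ, hθ⟩, hfix⟩, hθne⟩ := exists_ne one
    exact ⟨θ, hθ, fun e => hθne (Subtype.ext (Subtype.ext e)), congrArg Subtype.val hfix⟩

end Cfsg.Agent.Coherence
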