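import Cfsg.Agent.Coherence.Fixed
import Cfsg.Agent.Coherence.ThompsonFPF
import Cfsg.Agent.Char.Linear
import Cfsg.Agent.S1485
import Cfsg.Agent.S1528

/-!
# A normal subgroup containing the centralisers of its nontrivial elements (Frobenius kernel)
-/

namespace Cfsg.Agent.Coherence.FrobKernel

open scoped ComplexConjugate Classical

universe u

variable {L : Type u} [Group L] {N : Subgroup L} [hN : N.Normal]

theorem eq_one_of_comm (hC : ∀ n ∈ N, n ≠ 1 → Subgroup.centralizer ({n} : Set L) ≤ N)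
    {x n : L} (hx : x ∉ N) (hn : n ∈ N) (h : x * n = n * x) : n = 1 := by
  by_contra hne
  exact hx (hC n hn hne (Subgroup.mem_centralizer_singleton_iff.2 h))

/-- The inertia group of a nonprincipal character of the kernel is the kernel. -/
theorem inertia_eq [Finite L] (hC : ∀ n ∈ N, n ≠ 1 → Subgroup.centralizer ({n} : Set L) ≤ N)
    {φ : N → ℂ} (hφ : IsIrrCharacter N φ) (hφ1 : φ ≠ fun _ => 1) : Char.inertia φ = N := by
  refine le_antisymm (fun g hg => ?_) (Char.le_inertia (Char.isClassFunction_of_isIrr hφ))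
  obtain ⟨h, hne, hconj⟩ :=
    (fixed_irr_iff_fixed_class N g).1 ⟨φ, hφ, hφ1, Char.mem_inertia.1 hg⟩
  obtain ⟨k, hk⟩ := isConj_iff.1 hconj
  have hk' := congrArg Subtype.val hk
  simp only [Subgroup.coe_mul, Subgroup.coe_inv, MulAut.conjNormal_apply] at hk'
  have hmem : (k : L) * g ∈ N := hC h h.2 (fun e => hne (Subtype.ext e)) (by
    rw [Subgroup.mem_centralizer_singleton_iff]
    calc (k : L) * g * h = k * (g * h * g⁻¹) * (k : L)⁻¹ * (k * g) := by group
      _ = h * (k * g) := by rw [hk'])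
  have := N.mul_mem (N.inv_mem k.2) hmem
  rwa [inv_mul_cancel_left] at this

theorem coprime_index [Finite L]
    (hC : ∀ n ∈ N, n ≠ 1 → Subgroup.centralizer ({n} : Set L) ≤ N) :
    Nat.Coprime (Nat.card N) N.index := by
  by_contra hcop
  obtain ⟨p, hp, hpN, hpI⟩ := Nat.Prime.not_coprime_iff_dvd.1 hcop
  have := Fact.mk hp
  obtain ⟨Q⟩ : Nonempty (Sylow p N) := inferInstance
  have hQ : IsPGroup p ((Q : Subgroup N).map N.subtype) := Q.2.map N.subtype
  obtain ⟨S, hS⟩ := hQ.exists_le_sylow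
  have hQ1 : (Q : Subgroup N).map N.subtype ≠ ⊥ := by
    intro h
    rw [Subgroup.map_eq_bot_iff_of_injective _ N.subtype_injective] at h
    exact Q.ne_bot_of_dvd_card hpN h
  obtain ⟨q, hq, hq1⟩ := Subgroup.bot_or_exists_ne_one ((Q : Subgroup N).map N.subtype) |>.resolve_left hQ1
  have : Nontrivial (S : Subgroup L) := ⟨⟨⟨q, hS hq⟩, 1, fun e => hq1 (congrArg Subtype.val e)⟩⟩
  have := IsPGroup.center_nontrivial S.2
  obtain ⟨z, hz⟩ := exists_ne (1 : Subgroup.center (S : Subgroup L))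
  have hz1 : ((z : (S : Subgroup L)) : L) ≠ 1 := fun e => hz (Subtype.ext (Subtype.ext e))
  have hcz : ∀ s ∈ (S : Subgroup L), s * ((z : (S : Subgroup L)) : L) = (z : (S : Subgroup L)) * s :=
    fun s hs => congrArg Subtype.val (Subgroup.mem_center_iff.1 z.2 ⟨s, hs⟩)
  have hzN : ((z : (S : Subgroup L)) : L) ∈ N :=
    hC q (Subgroup.map_subtype_le _ hq) hq1
      (Subgroup.mem_centralizer_singleton_iff.2 (hcz q (hS hq)).symm)
  have hSN : (S : Subgroup L) ≤ N := fun s hs =>
    hC _ hzN hz1 (Subgroup.mem_centralizer_singleton_iff.2 (hcz s hs))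
  exact S.not_dvd_index (dvd_trans hpI (Subgroup.index_dvd_of_le hSN))

/-- The kernel is nilpotent. -/
theorem isNilpotent [Finite L]
    (hC : ∀ n ∈ N, n ≠ 1 → Subgroup.centralizer ({n} : Set L) ≤ N) (hN2 : N ≠ ⊤) :
    Group.IsNilpotent N := by
  have hidx : N.index ≠ 1 := fun e => hN2 (Subgroup.index_eq_one.1 e)
  obtain ⟨p, hp, hpI⟩ := Nat.exists_prime_and_dvd hidx
  have := Fact.mk hp
  obtain ⟨c, hc⟩ := exists_prime_orderOf_dvd_card' (G := L) p
    (hpI.trans (Subgroup.index_dvd_card N))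
  have hcN : c ∉ N := fun h => by
    have h1 : p ∣ Nat.card N := hc ▸ Subgroup.orderOf_dvd_natCard _ h
    exact hp.one_lt.ne' (Nat.dvd_one.1 ((coprime_index hC) ▸ Nat.dvd_gcd h1 hpI))
  refine isNilpotent_of_fpf_prime hp (c := c) (by rw [← hc, pow_orderOf_eq_one])
    (by rw [Subgroup.normalizer_eq_top]; trivial) ?_
  rw [eq_bot_iff]
  rintro n ⟨hn, hnc⟩
  exact Subgroup.mem_bot.2 (eq_one_of_comm hC hcN hn (Subgroup.mem_centralizer_singleton_iff.1 hnc).symm)

/-- Linear characters of the kernel, as functions. -/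
def linFun (f : N →* ℂˣ) : N → ℂ := fun n => (f n : ℂ)

omit hN in
theorem linFun_injective : Function.Injective (linFun (N := N)) := fun f f' h =>
  MonoidHom.ext fun n => Units.ext (congrFun h n)

omit hN in
theorem finite_hom [Finite L] : Finite (N →* ℂˣ) :=
  Finite.of_injective (fun f : N →* ℂˣ => (⟨linFun f, Char.isIrrCharacter_hom f⟩ : IrrCharacter N))
    fun f f' h => linFun_injective (congrArg Subtype.val h)

omit hN in
theorem exists_nontrivial_hom [Finite L] (hnil : Group.IsNilpotent N) (hN1 : N ≠ ⊥) :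
    ∃ f : N →* ℂˣ, f ≠ 1 := by
  have : Nontrivial N := (Subgroup.nontrivial_iff_ne_bot N).2 hN1
  have hlt : commutator N ≠ ⊤ := by
    intro h
    have hs : Group.IsSolvable N := inferInstance
    exact (Group.IsSolvable.commutator_lt_top_of_nontrivial N).ne h
  have h1 : 1 < Nat.card {χ : IrrCharacter N // (χ : N → ℂ) 1 = 1} := by
    rw [Char.card_linear]
    exact Subgroup.one_lt_index_of_ne_top hlt
  rw [Finite.one_lt_card_iff_nontrivial] at h1
  obtain ⟨χ, hχ⟩ :=
    exists_ne (⟨⟨_, Char.isIrrCharacter_one⟩, rfl⟩ : {χ : IrrCharacter N // (χ : N → ℂ) 1 = 1})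
  obtain ⟨f, hf⟩ := Char.IsChar.exists_hom (Char.IsIrr.isCharacter χ.1.2) χ.2
  refine ⟨f, fun e => hχ (Subtype.ext (Subtype.ext ?_))⟩
  rw [hf, e]; simp

/-- The order of the kernel is the number of its linear characters times their common kernel. -/
theorem card_hom_mul [Finite L] [Fintype (N →* ℂˣ)] :
    Nat.card (N →* ℂˣ) * Nat.card {x : N // ∀ f : N →* ℂˣ, f x = 1} = Nat.card N := by
  have := Fintype.ofFinite N
  have hrow : ∀ x : N, ∑ f : N →* ℂˣ, (f x : ℂ) =
      if ∀ f : N →* ℂˣ, f x = 1 then (Nat.card (N →* ℂˣ) : ℂ) else 0 := by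
    intro x
    split_ifs with h
    · simp [h, Nat.card_eq_fintype_card]
    · push_neg at h
      obtain ⟨g, hg⟩ := h
      have hshift : ∑ f : N →* ℂˣ, (f x : ℂ) = (g x : ℂ) * ∑ f : N →* ℂˣ, (f x : ℂ) := by
        rw [Finset.mul_sum]
        refine (Equiv.sum_comp (Equiv.mulLeft g) (fun f : N →* ℂˣ => (f x : ℂ))).symm.trans ?_
        simp
      have hne : (g x : ℂ) - 1 ≠ 0 := sub_ne_zero.2 fun e => hg (Units.ext e)
      exact (mul_eq_zero.1 (show ((g x : ℂ) - 1) * ∑ f : N →* ℂˣ, (f x : ℂ) = 0 by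
        linear_combination -hshift)).resolve_left hne
  have hcol : ∀ f : N →* ℂˣ, ∑ x : N, (f x : ℂ) = if f = 1 then (Nat.card N : ℂ) else 0 := by
    intro f
    split_ifs with h
    · simp [h, Nat.card_eq_fintype_card]
    · obtain ⟨y, hy⟩ : ∃ y, f y ≠ 1 := by
        by_contra! hall
        exact h (MonoidHom.ext hall)
      have hshift : ∑ x : N, (f x : ℂ) = (f y : ℂ) * ∑ x : N, (f x : ℂ) := by
        rw [Finset.mul_sum]
        refine (Equiv.sum_comp (Equiv.mulLeft y) (fun x : N => (f x : ℂ))).symm.trans ?_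
        simp
      have hne : (f y : ℂ) - 1 ≠ 0 := sub_ne_zero.2 fun e => hy (Units.ext e)
      exact (mul_eq_zero.1 (show ((f y : ℂ) - 1) * ∑ x : N, (f x : ℂ) = 0 by
        linear_combination -hshift)).resolve_left hne
  have h := Finset.sum_comm (s := (Finset.univ : Finset (N →* ℂˣ)))
    (t := (Finset.univ : Finset N)) (f := fun f x => (f x : ℂ))
  rw [Finset.sum_congr rfl (fun f _ => hcol f), Finset.sum_congr rfl (fun x _ => hrow x),
    Finset.sum_ite_eq' Finset.univ, if_pos (Finset.mem_univ _), ← Finset.sum_filter,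
    Finset.sum_const, nsmul_eq_mul, ← Fintype.card_subtype,
    ← Nat.card_eq_fintype_card (α := {x : N // ∀ f : N →* ℂˣ, f x = 1})] at h
  rw [mul_comm]
  exact_mod_cast h.symm

variable [Fintype L]

theorem irr_ind (hC : ∀ n ∈ N, n ≠ 1 → Subgroup.centralizer ({n} : Set L) ≤ N)
    {φ : N → ℂ} (hφ : IsIrrCharacter N φ) (hφ1 : φ ≠ fun _ => 1) :
    IsIrrCharacter L (indFun N φ) :=
  Char.isIrr_indFun_of_inertia hφ (inertia_eq hC hφ hφ1)

/-- An irreducible character either is constant on the kernel or vanishes off it. -/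
theorem irr_cases (hC : ∀ n ∈ N, n ≠ 1 → Subgroup.centralizer ({n} : Set L) ≤ N)
    {θ : L → ℂ} (hθ : IsIrrCharacter L θ) :
    (∀ n ∈ N, θ n = θ 1) ∨ ∀ x ∉ N, θ x = 0 := by
  by_cases h : ∀ n ∈ N, θ n = θ 1
  · exact Or.inl h
  · push_neg at h
    obtain ⟨φ, -, rfl⟩ := Cfsg.Agent.S1528.result N hC θ hθ h
    exact Or.inr fun x hx => Char.indFun_apply_of_normal N φ hx

/-- The characters induced from nonprincipal linear characters of the kernel. -/
noncomputable def linFamily (N : Subgroup L) [Fintype (N →* ℂˣ)] : Finset (L → ℂ) :=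
  (Finset.univ.filter fun f : N →* ℂˣ => f ≠ 1).image fun f => indFun N (linFun f)

variable [Fintype (N →* ℂˣ)]

theorem mem_linFamily {χ : L → ℂ} :
    χ ∈ linFamily N ↔ ∃ f : N →* ℂˣ, f ≠ 1 ∧ indFun N (linFun f) = χ := by
  simp [linFamily]

omit hN [Fintype L] [Fintype (N →* ℂˣ)] in
theorem linFun_ne_one {f : N →* ℂˣ} (h : f ≠ 1) : linFun f ≠ fun _ => 1 := fun e =>
  h (linFun_injective (e.trans (by funext n; simp [linFun])))

theorem linFamily_irr (hC : ∀ n ∈ N, n ≠ 1 → Subgroup.centralizer ({n} : Set L) ≤ N)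
    {χ : L → ℂ} (h : χ ∈ linFamily N) : IsIrrCharacter L χ := by
  obtain ⟨f, hf, rfl⟩ := mem_linFamily.1 h
  exact irr_ind hC (Char.isIrrCharacter_hom f) (linFun_ne_one hf)

theorem linFamily_apply_one {χ : L → ℂ} (h : χ ∈ linFamily N) : χ 1 = (N.index : ℂ) := by
  obtain ⟨f, -, rfl⟩ := mem_linFamily.1 h
  rw [Char.indFun_apply_one]; simp [linFun]

theorem linFamily_off {χ : L → ℂ} (h : χ ∈ linFamily N) {x : L} (hx : x ∉ N) : χ x = 0 := by
  obtain ⟨f, -, rfl⟩ := mem_linFamily.1 h
  exact Char.indFun_apply_of_normal N _ hx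

theorem linFamily_conj {χ : L → ℂ} (h : χ ∈ linFamily N) : conjFun χ ∈ linFamily N := by
  obtain ⟨f, hf, rfl⟩ := mem_linFamily.1 h
  refine mem_linFamily.2 ⟨f⁻¹, fun e => hf (MonoidHom.ext fun n => ?_), ?_⟩
  · simpa using DFunLike.congr_fun e n
  funext x
  simp only [conjFun, Char.indFun_apply, map_mul, map_inv₀, Complex.conj_natCast, map_sum]
  congr 1
  refine Finset.sum_congr rfl fun y _ => ?_
  by_cases hy : y⁻¹ * x * y ∈ N
  · rw [Char.extendByZero_of_mem _ _ hy, Char.extendByZero_of_mem _ _ hy]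
    have := Char.IsChar.inv_eq_conj (Char.isCharacter_hom f) ⟨_, hy⟩
    rw [linFun, linFun, ← this]
    simp
  · rw [Char.extendByZero_of_not_mem _ _ hy, Char.extendByZero_of_not_mem _ _ hy, map_zero]

theorem linFamily_conj_ne (hC : ∀ n ∈ N, n ≠ 1 → Subgroup.centralizer ({n} : Set L) ≤ N)
    (hodd : Odd (Nat.card L)) (hN2 : N ≠ ⊤) {χ : L → ℂ} (h : χ ∈ linFamily N) :
    conjFun χ ≠ χ := by
  intro e
  have h1 := Char.real_irr_eq_one hodd (linFamily_irr hC h)
    (fun g => Complex.conj_eq_iff_im.1 (congrFun e g))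
  have h2 := linFamily_apply_one h
  rw [h1] at h2
  exact hN2 (Subgroup.index_eq_one.1 (Nat.cast_eq_one.1 h2.symm))

/-- On the kernel, the members of the family add up to the nonprincipal linear characters. -/
theorem sum_linFamily (hC : ∀ n ∈ N, n ≠ 1 → Subgroup.centralizer ({n} : Set L) ≤ N) (x : N) :
    ∑ χ ∈ linFamily N, χ x =
      ∑ f ∈ Finset.univ.filter (fun f : N →* ℂˣ => f ≠ 1), (f x : ℂ) := by
  rw [← Finset.sum_fiberwise_of_maps_to (s := Finset.univ.filter fun f : N →* ℂˣ => f ≠ 1)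
    (t := linFamily N) (g := fun f => indFun N (linFun f))
    (fun f hf => Finset.mem_image_of_mem _ hf)]
  refine Finset.sum_congr rfl fun χ hχ => ?_
  obtain ⟨f₀, hf₀, rfl⟩ := mem_linFamily.1 hχ
  have hirr : IsIrrCharacter N (linFun f₀) := Char.isIrrCharacter_hom f₀
  have h := congrFun (Cfsg.Agent.S1485.result N (linFun f₀) hirr) x
  have hT : Nat.card {g : L // ∀ m : N, linFun f₀ ⟨g * m * g⁻¹, hN.conj_mem m m.2 g⟩ = linFun f₀ m} =
      Nat.card N := by
    rw [Nat.card_congr (Equiv.subtypeEquivRight fun g => funext_iff.symm)]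
    exact Nat.card_congr (Equiv.setCongr
      (congrArg SetLike.coe (inertia_eq hC hirr (linFun_ne_one hf₀))))
  rw [hT, div_self (Nat.cast_ne_zero.2 Nat.card_pos.ne'), one_smul] at h
  rw [h]
  set fib := (Finset.univ.filter fun f : N →* ℂˣ => f ≠ 1).filter
    (fun f => indFun N (linFun f) = indFun N (linFun f₀)) with hfib
  have hset : {ψ : N → ℂ | ∃ g : L, ψ = fun m : N => linFun f₀ ⟨g * m * g⁻¹, hN.conj_mem m m.2 g⟩}
      = ↑(fib.image linFun) := by
    ext ψ
    simp only [Set.mem_setOf_eq, Finset.mem_coe, Finset.mem_image, hfib, Finset.mem_filter,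
      Finset.mem_univ, true_and]
    constructor
    · rintro ⟨g, rfl⟩
      refine ⟨f₀.comp (MulAut.conjNormal g : MulAut N).toMonoidHom, ⟨fun e => hf₀ ?_, ?_⟩, rfl⟩
      · ext m
        have := DFunLike.congr_fun e ((MulAut.conjNormal g : MulAut N).symm m)
        simpa using congrArg Units.val this
      · funext y
        simp only [Char.indFun_apply]
        congr 1
        refine Fintype.sum_equiv (Equiv.mulRight g⁻¹) _ _ fun z => ?_
        simp only [Equiv.coe_mulRight, mul_inv_rev, inv_inv]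
        have he : g * z⁻¹ * y * (z * g⁻¹) = g * (z⁻¹ * y * z) * g⁻¹ := by group
        rw [he]
        by_cases hy : z⁻¹ * y * z ∈ N
        · rw [Char.extendByZero_of_mem _ _ hy,
            Char.extendByZero_of_mem _ _ (hN.conj_mem _ hy g)]
          rfl
        · rw [Char.extendByZero_of_not_mem _ _ hy, Char.extendByZero_of_not_mem]
          intro h'
          exact hy (by simpa [mul_assoc] using hN.conj_mem _ h' g⁻¹)
    · rintro ⟨f, ⟨-, hfe⟩, rfl⟩
      by_contra hno
      have h0 : classInner (indFun N (linFun f₀)) (indFun N (linFun f)) = 0 := by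
        rw [Char.classInner_indFun_indFun hirr (show IsIrrCharacter N (linFun f) from Char.isIrrCharacter_hom f)]
        have : IsEmpty {g : L // Char.conjFun g (linFun f₀) = linFun f} :=
          ⟨fun g => hno ⟨g.1, g.2.symm⟩⟩
        simp
      rw [hfe, Char.classInner_irr_self (linFamily_irr hC hχ)] at h0
      exact one_ne_zero h0
  rw [hset, finsum_mem_coe_finset, Finset.sum_apply,
    Finset.sum_image fun a _ b _ e => linFun_injective e]
  rfl

theorem card_linFamily_mul (hC : ∀ n ∈ N, n ≠ 1 → Subgroup.centralizer ({n} : Set L) ≤ N) :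
    (linFamily N).card * N.index + 1 = Nat.card (N →* ℂˣ) := by
  have h := sum_linFamily hC (1 : N)
  rw [OneMemClass.coe_one] at h
  rw [Finset.sum_congr rfl (fun χ hχ => linFamily_apply_one hχ), Finset.sum_const,
    nsmul_eq_mul] at h
  simp only [map_one, Units.val_one, Finset.sum_const, nsmul_one] at h
  have h' : (linFamily N).card * N.index =
      (Finset.univ.filter fun f : N →* ℂˣ => f ≠ 1).card := by exact_mod_cast h
  rw [Finset.filter_ne', Finset.card_erase_of_mem (Finset.mem_univ _), Finset.card_univ,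
    ← Nat.card_eq_fintype_card] at h'
  have : 0 < Nat.card (N →* ℂˣ) := Nat.card_pos
  omega

end Cfsg.Agent.Coherence.FrobKernel
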