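import Cfsg.Agent.Coherence.Basic

/-!
# Bessel inequality and extension criteria for coherence
-/

namespace Cfsg.Agent.Coherence

open scoped ComplexConjugate
open Cfsg.Agent.Char (classInner_add_left classInner_add_right classInner_sub_left
  classInner_sub_right classInner_neg_left classInner_neg_right classInner_smul_left
  classInner_smul_right classInner_zero_left classInner_zero_right classInner_sum_left
  classInner_sum_right classInner_conj_symm classInner_self_eq classInner_self_eq_zero)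

universe u v w

section Bessel

variable {X : Type u} [Group X] [Fintype X]

theorem classInner_self_re_nonneg (φ : X → ℂ) : 0 ≤ (classInner φ φ).re := by
  rw [classInner_self_eq, Complex.ofReal_re]
  exact mul_nonneg (by positivity) (Finset.sum_nonneg fun g _ => Complex.normSq_nonneg _)

theorem classInner_self_ofReal (φ : X → ℂ) : classInner φ φ = ((classInner φ φ).re : ℂ) := by
  rw [classInner_self_eq, Complex.ofReal_re]

theorem classInner_self_re_pos {φ : X → ℂ} (h : φ ≠ 0) : 0 < (classInner φ φ).re := by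
  refine lt_of_le_of_ne (classInner_self_re_nonneg φ) fun e => h ?_
  rw [← classInner_self_eq_zero, classInner_self_ofReal φ, ← e, Complex.ofReal_zero]

/-- Bessel's inequality for a finite orthogonal family, with the case of equality. -/
theorem bessel {ι : Type w} (s : Finset ι) (g : ι → X → ℂ) (hne : ∀ i ∈ s, g i ≠ 0)
    (horth : ∀ i ∈ s, ∀ j ∈ s, i ≠ j → classInner (g i) (g j) = 0) (β : X → ℂ) :
    (∑ i ∈ s, ‖classInner β (g i)‖ ^ 2 / (classInner (g i) (g i)).re ≤ (classInner β β).re) ∧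
    (∑ i ∈ s, ‖classInner β (g i)‖ ^ 2 / (classInner (g i) (g i)).re = (classInner β β).re →
      β = ∑ i ∈ s, (classInner β (g i) / classInner (g i) (g i)) • g i) := by
  set P := ∑ i ∈ s, (classInner β (g i) / classInner (g i) (g i)) • g i with hP
  have hne' : ∀ i ∈ s, classInner (g i) (g i) ≠ 0 := fun i hi h =>
    hne i hi ((classInner_self_eq_zero _).1 h)
  have hPj : ∀ j ∈ s, classInner P (g j) = classInner β (g j) := by
    intro j hj
    rw [hP, classInner_sum_left, Finset.sum_eq_single j]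
    · rw [classInner_smul_left, div_mul_cancel₀ _ (hne' j hj)]
    · intro i hi hij
      rw [classInner_smul_left, horth i hi j hj hij, mul_zero]
    · exact fun h => absurd hj h
  have hPP : classInner P P = classInner β P := by
    conv_lhs => arg 2; rw [hP]
    conv_rhs => rw [hP]
    simp only [classInner_sum_right, classInner_smul_right]
    exact Finset.sum_congr rfl fun j hj => by rw [hPj j hj]
  have hPβ : classInner P β = classInner P P := by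
    rw [← classInner_conj_symm β P, ← hPP, classInner_conj_symm]
  have hval : classInner β P =
      ((∑ i ∈ s, ‖classInner β (g i)‖ ^ 2 / (classInner (g i) (g i)).re : ℝ) : ℂ) := by
    rw [hP, classInner_sum_right, Complex.ofReal_sum]
    refine Finset.sum_congr rfl fun i hi => ?_
    rw [classInner_smul_right, map_div₀, classInner_conj_symm (g i) (g i),
      Complex.ofReal_div, Complex.ofReal_pow, ← classInner_self_ofReal, div_mul_eq_mul_div,
      Complex.conj_mul']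
  have hdiff : classInner (β - P) (β - P) = classInner β β - classInner β P := by
    simp only [classInner_sub_left, classInner_sub_right, hPβ, hPP]
    ring
  have hre := congrArg Complex.re hdiff
  rw [Complex.sub_re, hval, Complex.ofReal_re] at hre
  refine ⟨by linarith [classInner_self_re_nonneg (β - P)], fun he => ?_⟩
  rw [← sub_eq_zero, ← classInner_self_eq_zero, classInner_self_ofReal (β - P), hre, he,
    sub_self, Complex.ofReal_zero]

theorem norm_intCast_sq (k : ℤ) : ‖(k : ℂ)‖ ^ 2 = (k : ℝ) ^ 2 := by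
  rw [Complex.norm_intCast, sq_abs]

theorem int_le_sq (k : ℤ) : k ≤ k ^ 2 := by nlinarith [sq_nonneg (2 * k - 1)]

theorem int_sq_eq_self {k : ℤ} (h : k ^ 2 = k) : k = 0 ∨ k = 1 := by
  rcases mul_eq_zero.1 (show k * (k - 1) = 0 by linear_combination h) with h1 | h1
  · exact Or.inl h1
  · exact Or.inr (by omega)

/-- Two orthogonal signed pairs with orthogonal weighted differences vanishing at `1` are mutually
orthogonal; both differences may be weighted. -/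
theorem signed_cross_weighted {α β γ δ : X → ℂ} (hα : SIrr X α) (hβ : SIrr X β) (hγ : SIrr X γ)
    (hδ : SIrr X δ) (a b u v : ℝ) (ha : a ≠ 0) (hu : u ≠ 0)
    (hab : classInner α β = 0) (hcd : classInner γ δ = 0)
    (hmix : classInner ((a : ℂ) • α - (b : ℂ) • β) ((u : ℂ) • γ - (v : ℂ) • δ) = 0)
    (h1 : (a : ℂ) * α 1 = (b : ℂ) * β 1) (h2 : (u : ℂ) * γ 1 = (v : ℂ) * δ 1) :
    classInner α γ = 0 := by
  by_contra hne
  obtain ⟨s, hs, rfl⟩ : ∃ s : ℂ, (s = 1 ∨ s = -1) ∧ α = s • γ := by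
    rcases hα.inner_cases hγ with h | ⟨h, -⟩ | ⟨h, -⟩
    · exact absurd h hne
    · exact ⟨1, Or.inl rfl, by rw [one_smul]; exact h⟩
    · exact ⟨-1, Or.inr rfl, by rw [neg_one_smul]; exact h⟩
  have hs0 : s ≠ 0 := by rcases hs with rfl | rfl <;> norm_num
  have hbg : classInner β γ = 0 := by
    have := inner_eq_zero_comm hab
    rw [classInner_smul_right] at this
    rcases mul_eq_zero.1 this with h | h
    · exact absurd h (by simpa using hs0)
    · exact h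
  simp only [classInner_sub_left, classInner_sub_right, classInner_smul_right,
    classInner_smul_left, hγ.inner_self, hcd, hbg, Complex.conj_ofReal, mul_zero, sub_zero,
    zero_sub, mul_one, sub_neg_eq_add] at hmix
  have hau : (u : ℂ) * ((a : ℂ) * s) ≠ 0 :=
    mul_ne_zero (Complex.ofReal_ne_zero.2 hu) (mul_ne_zero (Complex.ofReal_ne_zero.2 ha) hs0)
  obtain ⟨t, ht, rfl⟩ : ∃ t : ℂ, (t = 1 ∨ t = -1) ∧ β = t • δ := by
    rcases hβ.inner_cases hδ with h | ⟨h, -⟩ | ⟨h, -⟩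
    · rw [h] at hmix
      exact absurd (by linear_combination hmix) hau
    · exact ⟨1, Or.inl rfl, by rw [one_smul]; exact h⟩
    · exact ⟨-1, Or.inr rfl, by rw [neg_one_smul]; exact h⟩
  rw [classInner_smul_left, hδ.inner_self, mul_one] at hmix
  simp only [Pi.smul_apply, smul_eq_mul] at h1
  have hs2 : s ^ 2 = 1 := by rcases hs with rfl | rfl <;> norm_num
  have ht2 : t ^ 2 = 1 := by rcases ht with rfl | rfl <;> norm_num
  have hd := hδ.apply_one_ne_zero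
  have hv : v ≠ 0 := fun e => by subst e; simp [hγ.apply_one_ne_zero, hu] at h2
  have hb : b ≠ 0 := fun e => by subst e; simp [hγ.apply_one_ne_zero, ha, hs0] at h1
  have h3 : (b : ℂ) * u * t = (a : ℂ) * s * v := by
    refine sub_eq_zero.1 ((mul_eq_zero.1 (show ((b : ℂ) * u * t - a * s * v) * δ 1 = 0 from ?_)
      ).resolve_right hd)
    linear_combination -(u : ℂ) * h1 + (a : ℂ) * s * h2
  have h4 : (b : ℂ) * ((u : ℂ) ^ 2 + (v : ℂ) ^ 2) = 0 := by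
    linear_combination t * (u : ℂ) * h3 + (v : ℂ) * t * hmix -
      ((b : ℂ) * v ^ 2 + b * u ^ 2) * ht2
  rcases mul_eq_zero.1 h4 with h | h
  · exact hb (Complex.ofReal_eq_zero.1 h)
  · have h5 : u ^ 2 + v ^ 2 = 0 := by exact_mod_cast h
    nlinarith [mul_self_pos.2 hu, sq_nonneg v]

end Bessel

section Integer

variable {X : Type u} [Group X] [Fintype X] {S : Set (X → ℂ)}

theorem isGeneralized_zspan (hS : ∀ χ ∈ S, IsGeneralizedCharacter X χ) {α : X → ℂ}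
    (hα : α ∈ zspan S) : IsGeneralizedCharacter X α := by
  refine zspan_induction (P := IsGeneralizedCharacter X) hα hS Char.isGeneralized_zero
    (fun _ _ _ _ => Char.isGeneralized_add) fun n β _ h => ?_
  rw [← Int.cast_smul_eq_zsmul ℂ]
  exact Char.isGeneralized_intCast_smul n h

omit [Fintype X] in
theorem isGeneralized_one_int {α : X → ℂ} (h : IsGeneralizedCharacter X α) :
    ∃ k : ℤ, α 1 = k := by
  obtain ⟨a, b, ha, hb, rfl⟩ := h
  obtain ⟨m, hm⟩ := Char.IsChar.degree ha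
  obtain ⟨n, hn⟩ := Char.IsChar.degree hb
  exact ⟨(m : ℤ) - n, by simp [hm, hn]⟩

theorem classInner_self_natCast {χ : X → ℂ} (h : IsCharacter X χ) :
    ∃ n : ℕ, classInner χ χ = n :=
  Char.classInner_isCharacter_eq_natCast h h

omit [Fintype X] in
theorem char_conj_ne_one_ne_zero [Finite X] {χ : X → ℂ} (h : IsCharacter X χ)
    (hne : conjFun χ ≠ χ) : χ 1 ≠ 0 := by
  intro h1
  have := Fintype.ofFinite X
  have h0 := (Char.IsChar.eq_zero_iff h).2 h1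
  exact hne (by rw [h0]; funext x; simp [conjFun])

theorem isIsometry_inner_sub {L : Type v} [Group L] [Fintype L] {E : Set (L → ℂ)}
    {τ : (L → ℂ) → (X → ℂ)} (hτ : IsLinearIsometryOn E τ) {α β : L → ℂ} (hα : α ∈ E)
    (hβ : β ∈ E) : classInner (τ α) (τ β) = classInner α β :=
  hτ.2.2.1 α hα β hβ

end Integer

section Extend

variable {L : Type u} [Group L] [Fintype L] {G : Type v} [Group G] [Fintype G]

theorem iso_zspanOn_sum {S : Set (L → ℂ)} {A : Set L} {τ : (L → ℂ) → (G → ℂ)}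
    (h : IsLinearIsometryOn (zspanOn S A) τ) {ι : Type*}
    (s : Finset ι) (n : ι → ℤ) (f : ι → L → ℂ) (hf : ∀ i ∈ s, f i ∈ zspanOn S A) :
    τ (∑ i ∈ s, n i • f i) = ∑ i ∈ s, n i • τ (f i) ∧ ∑ i ∈ s, n i • f i ∈ zspanOn S A := by
  classical
  induction s using Finset.induction with
  | empty => simp [iso_map_zero h zspanOn_zero, zspanOn_zero]
  | insert a s ha ih =>
    have hfa := hf a (Finset.mem_insert_self a s)
    obtain ⟨e, hm⟩ := ih fun i hi => hf i (Finset.mem_insert_of_mem hi)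
    rw [Finset.sum_insert ha, Finset.sum_insert ha,
      h.1 _ (zspanOn_zsmul _ hfa) _ hm, h.2.1 _ hfa, e]
    exact ⟨rfl, zspanOn_add (zspanOn_zsmul _ hfa) hm⟩

/-- Adding a character `χ` to a coherent family when `τ (χ - a χ₁)` has the same inner products
with the image of the family as `χ - a χ₁` has with the family. -/
theorem coherent_insert (S₁ : Finset (L → ℂ)) (χ χ₁ : L → ℂ) (a : ℕ)
    (hχ₁ : χ₁ ∈ S₁)
    (hχS : χ ∉ S₁)
    (horth : ∀ φ ∈ insert χ (↑S₁ : Set (L → ℂ)), ∀ ψ ∈ insert χ (↑S₁ : Set (L → ℂ)), φ ≠ ψ →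
      classInner φ ψ = 0)
    (hne : ∀ φ ∈ insert χ (↑S₁ : Set (L → ℂ)), φ ≠ 0)
    (hgen : ∀ φ ∈ insert χ (↑S₁ : Set (L → ℂ)), IsGeneralizedCharacter L φ)
    {τ τ₁ : (L → ℂ) → (G → ℂ)}
    (hτ : IsLinearIsometryOn (zspanOn (insert χ (↑S₁ : Set (L → ℂ))) {1}ᶜ) τ)
    (hτ₁ : IsLinearIsometryOn (zspan (↑S₁ : Set (L → ℂ))) τ₁)
    (hagree : ∀ α ∈ zspanOn (↑S₁ : Set (L → ℂ)) {1}ᶜ, τ₁ α = τ α)
    (hdeg : χ 1 = (a : ℂ) * χ₁ 1)
    (hinner : ∀ φ ∈ S₁, classInner (τ (χ - (a : ℂ) • χ₁)) (τ₁ φ) =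
      classInner (χ - (a : ℂ) • χ₁) φ) :
    ∃ τ₂ : (L → ℂ) → (G → ℂ), IsLinearIsometryOn (zspan (insert χ (↑S₁ : Set (L → ℂ)))) τ₂ ∧
      (∀ α ∈ zspanOn (insert χ (↑S₁ : Set (L → ℂ))) {1}ᶜ, τ₂ α = τ α) ∧
      (∀ φ ∈ S₁, τ₂ φ = τ₁ φ) ∧
      τ₂ χ = τ (χ - (a : ℂ) • χ₁) + (a : ℂ) • τ₁ χ₁ := by
  classical
  set θ := χ - (a : ℂ) • χ₁ with hθ
  have hθm : θ ∈ zspanOn (insert χ (↑S₁ : Set (L → ℂ))) {1}ᶜ :=
    mem_zspanOn_compl_one.2 ⟨zspan_sub (mem_zspan_of_mem (Set.mem_insert _ _))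
      (zspan_natCast_smul _ (mem_zspan_of_mem (Set.mem_insert_of_mem _ hχ₁))),
      by simp [hθ, hdeg]⟩
  have hzχ₁ : χ₁ ∈ zspan (↑S₁ : Set (L → ℂ)) := mem_zspan_of_mem hχ₁
  set f : (L → ℂ) → (G → ℂ) := fun φ => if φ = χ then τ θ + (a : ℂ) • τ₁ χ₁ else τ₁ φ with hf
  have hfχ : f χ = τ θ + (a : ℂ) • τ₁ χ₁ := by simp [hf]
  have hfφ : ∀ φ ∈ S₁, f φ = τ₁ φ := fun φ hφ => by
    have : φ ≠ χ := fun e => hχS (e ▸ hφ)
    simp [hf, this]
  have hco : (↑(insert χ S₁) : Set (L → ℂ)) = insert χ (↑S₁ : Set (L → ℂ)) := Finset.coe_insert _ _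
  have hcross : ∀ φ ∈ S₁, classInner (f χ) (f φ) = classInner χ φ := by
    intro φ hφ
    rw [hfχ, hfφ φ hφ, classInner_add_left, classInner_smul_left, hinner φ hφ,
      hτ₁.2.2.1 _ hzχ₁ _ (mem_zspan_of_mem hφ), hθ, classInner_sub_left, classInner_smul_left]
    ring
  have hinn : ∀ φ ∈ insert χ S₁, ∀ ψ ∈ insert χ S₁,
      classInner (f φ) (f ψ) = classInner φ ψ := by
    intro φ hφ ψ hψ
    rcases Finset.mem_insert.1 hφ with rfl | hφ' <;> rcases Finset.mem_insert.1 hψ with rfl | hψ'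
    · have h1 := hinner χ₁ hχ₁
      have h2 : classInner (τ₁ χ₁) (τ θ) = classInner χ₁ θ := by
        rw [← classInner_conj_symm (τ θ), h1, classInner_conj_symm]
      simp only [hfχ, classInner_add_left, classInner_add_right, classInner_smul_left,
        classInner_smul_right, hτ.2.2.1 _ hθm _ hθm, h1, h2, hτ₁.2.2.1 _ hzχ₁ _ hzχ₁]
      simp only [hθ, classInner_sub_left, classInner_sub_right, classInner_smul_left,
        classInner_smul_right, Complex.conj_natCast]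
      ring
    · exact hcross ψ hψ'
    · rw [← classInner_conj_symm (f ψ), hcross φ hφ', classInner_conj_symm]
    · rw [hfφ φ hφ', hfφ ψ hψ',
        hτ₁.2.2.1 _ (mem_zspan_of_mem hφ') _ (mem_zspan_of_mem hψ')]
  obtain ⟨τ₂, hτ₂, hval⟩ := exists_isometry_of_basis (S := insert χ S₁)
    (fun φ hφ ψ hψ => horth φ (hco ▸ Finset.mem_coe.2 hφ) ψ (hco ▸ Finset.mem_coe.2 hψ))
    (fun φ hφ => hne φ (hco ▸ Finset.mem_coe.2 hφ)) f
    (fun φ hφ => by
      rcases Finset.mem_insert.1 hφ with rfl | hφ'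
      · rw [hfχ, ← Int.cast_natCast (R := ℂ) a]
        exact Char.isGeneralized_add (hτ.2.2.2 _ hθm)
          (Char.isGeneralized_intCast_smul _ (hτ₁.2.2.2 _ hzχ₁))
      · rw [hfφ φ hφ']; exact hτ₁.2.2.2 _ (mem_zspan_of_mem hφ'))
    hinn
  rw [hco] at hτ₂
  have hold : ∀ φ ∈ S₁, τ₂ φ = τ₁ φ := fun φ hφ => by
    rw [hval φ (Finset.mem_insert_of_mem hφ), hfφ φ hφ]
  have hnew : τ₂ χ = τ θ + (a : ℂ) • τ₁ χ₁ := by
    rw [hval χ (Finset.mem_insert_self χ S₁), hfχ]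
  refine ⟨τ₂, hτ₂, fun α hα => ?_, hold, hnew⟩
  have hτ₂S : IsLinearIsometryOn (zspan (↑S₁ : Set (L → ℂ))) τ₂ :=
    IsLinearIsometryOn.mono hτ₂ (zspan_mono (Set.subset_insert _ _))
  have hsame : ∀ γ ∈ zspan (↑S₁ : Set (L → ℂ)), τ₂ γ = τ₁ γ := fun γ hγ => by
    refine (zspan_induction (P := fun γ => γ ∈ zspan (↑S₁ : Set (L → ℂ)) ∧ τ₂ γ = τ₁ γ) hγ
      (fun φ hφ => ⟨mem_zspan_of_mem hφ, hold φ hφ⟩)
      ⟨zspan_zero, by rw [iso_map_zero hτ₂S zspan_zero, iso_map_zero hτ₁ zspan_zero]⟩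
      (fun β γ hb hc hb' hc' => ⟨zspan_add hb hc, by
        rw [hτ₂S.1 β hb γ hc, hτ₁.1 β hb γ hc, hb'.2, hc'.2]⟩)
      (fun n β hb hb' => ⟨zspan_zsmul n hb, by rw [hτ₂S.2.1 β hb, hτ₁.2.1 β hb, hb'.2]⟩)).2
  obtain ⟨n, hn⟩ := zspan_finset (s := insert χ S₁) (by rw [hco]; exact hα.1)
  rw [Finset.sum_insert hχS] at hn
  set ρ := ∑ φ ∈ S₁, n φ • φ with hρ
  have hρm : ρ ∈ zspan (↑S₁ : Set (L → ℂ)) :=
    zspan_sum _ _ fun φ hφ => zspan_zsmul _ (mem_zspan_of_mem hφ)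
  set γ := ρ + (n χ * (a : ℤ)) • χ₁ with hγ
  have hdec : α = n χ • θ + γ := by
    rw [hn, hγ, hθ]; funext x; simp; ring
  have hγm : γ ∈ zspanOn (↑S₁ : Set (L → ℂ)) {1}ᶜ := by
    refine mem_zspanOn_compl_one.2 ⟨zspan_add hρm (zspan_zsmul _ hzχ₁), ?_⟩
    have h1 := (mem_zspanOn_compl_one.1 hα).2
    have h2 := (mem_zspanOn_compl_one.1 hθm).2
    rw [hdec] at h1
    simpa [h2] using h1
  have hτθ : τ₂ θ = τ θ := by
    have hz : χ₁ ∈ zspan (insert χ (↑S₁ : Set (L → ℂ))) :=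
      mem_zspan_of_mem (Set.mem_insert_of_mem _ hχ₁)
    rw [hθ, iso_zspan_sub hτ₂ (mem_zspan_of_mem (Set.mem_insert _ _)) (zspan_natCast_smul _ hz),
      iso_zspan_natCast hτ₂ a hz, hnew, hold χ₁ hχ₁, hθ, add_sub_cancel_right]
  rw [hdec, hτ₂.1 _ (zspan_zsmul _ hθm.1) _ (zspan_mono (Set.subset_insert _ _) hγm.1),
    hτ₂.2.1 _ hθm.1, hτθ, hsame γ hγm.1, hagree γ hγm,
    hτ.1 _ (zspanOn_zsmul _ hθm) _ (zspanOn_mono (Set.subset_insert _ _) hγm),
    hτ.2.1 _ hθm]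

/-- The inner products of `τ (χ - a χ₁)` with the image of a coherent family are those of
`χ - a χ₁` shifted by an integer multiple `x` of the degrees; the Bessel sum is a quadratic in
`x`. -/
theorem exists_shift (S₁ : Finset (L → ℂ)) (χ χ₁ : L → ℂ) (a : ℕ) (hχ₁ : χ₁ ∈ S₁)
    (hχS : χ ∉ S₁)
    (horth : ∀ φ ∈ insert χ (↑S₁ : Set (L → ℂ)), ∀ ψ ∈ insert χ (↑S₁ : Set (L → ℂ)), φ ≠ ψ →
      classInner φ ψ = 0)
    (hgen : ∀ φ ∈ insert χ (↑S₁ : Set (L → ℂ)), IsGeneralizedCharacter L φ)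
    {τ τ₁ : (L → ℂ) → (G → ℂ)}
    (hτ : IsLinearIsometryOn (zspanOn (insert χ (↑S₁ : Set (L → ℂ))) {1}ᶜ) τ)
    (hτ₁ : IsLinearIsometryOn (zspan (↑S₁ : Set (L → ℂ))) τ₁)
    (hagree : ∀ α ∈ zspanOn (↑S₁ : Set (L → ℂ)) {1}ᶜ, τ₁ α = τ α)
    (hdeg : χ 1 = (a : ℂ) * χ₁ 1) (d n : (L → ℂ) → ℕ) (hd : ∀ φ ∈ S₁, φ 1 = (d φ : ℂ))
    (hn : ∀ φ ∈ S₁, classInner φ φ = (n φ : ℂ)) (hnpos : ∀ φ ∈ S₁, n φ ≠ 0) (hd₁ : d χ₁ ≠ 0) :
    ∃ x : ℤ, (∀ φ ∈ S₁, classInner (τ (χ - (a : ℂ) • χ₁)) (τ₁ φ) =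
        ((d φ : ℝ) * x / d χ₁ : ℝ) + classInner (χ - (a : ℂ) • χ₁) φ) ∧
      (∑ φ ∈ S₁, ‖classInner (τ (χ - (a : ℂ) • χ₁)) (τ₁ φ)‖ ^ 2 /
          (classInner (τ₁ φ) (τ₁ φ)).re) =
        (a : ℝ) ^ 2 * n χ₁ - 2 * a * x +
          (x : ℝ) ^ 2 * (∑ φ ∈ S₁, (d φ : ℝ) ^ 2 / n φ) / (d χ₁ : ℝ) ^ 2 := by
  classical
  set θ := χ - (a : ℂ) • χ₁ with hθ
  have hθm : θ ∈ zspanOn (insert χ (↑S₁ : Set (L → ℂ))) {1}ᶜ :=
    mem_zspanOn_compl_one.2 ⟨zspan_sub (mem_zspan_of_mem (Set.mem_insert _ _))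
      (zspan_natCast_smul _ (mem_zspan_of_mem (Set.mem_insert_of_mem _ hχ₁))),
      by simp [hθ, hdeg]⟩
  have hz : ∀ φ ∈ S₁, φ ∈ zspan (↑S₁ : Set (L → ℂ)) := fun φ h => mem_zspan_of_mem h
  have hbθ : ∀ φ ∈ S₁, classInner θ φ = if φ = χ₁ then -((a : ℂ) * n χ₁) else 0 := by
    intro φ hφ
    have h0 : classInner χ φ = 0 := horth χ (Set.mem_insert _ _) φ (Set.mem_insert_of_mem _ hφ)
      fun e => hχS (e ▸ hφ)
    rw [hθ, classInner_sub_left, classInner_smul_left, h0, zero_sub]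
    split_ifs with h
    · rw [h, hn χ₁ hχ₁]
    · rw [horth χ₁ (Set.mem_insert_of_mem _ hχ₁) φ (Set.mem_insert_of_mem _ hφ) (Ne.symm h),
        mul_zero, neg_zero]
  obtain ⟨k, hk⟩ := Char.classInner_generalized_int (hτ.2.2.2 _ hθm)
    (hτ₁.2.2.2 _ (hz χ₁ hχ₁))
  refine ⟨k + (a : ℤ) * n χ₁, ?_⟩
  have hform : ∀ φ ∈ S₁, classInner (τ θ) (τ₁ φ) =
      ((d φ : ℝ) * ((k + (a : ℤ) * n χ₁ : ℤ) : ℝ) / d χ₁ : ℝ) + classInner θ φ := by
    intro φ hφ
    set γ := (d χ₁ : ℂ) • φ - (d φ : ℂ) • χ₁ with hγ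
    have hγm : γ ∈ zspanOn (↑S₁ : Set (L → ℂ)) {1}ᶜ :=
      mem_zspanOn_compl_one.2 ⟨zspan_sub (zspan_natCast_smul _ (hz φ hφ))
        (zspan_natCast_smul _ (hz χ₁ hχ₁)), by simp [hγ, hd φ hφ, hd χ₁ hχ₁, mul_comm]⟩
    have h1 := hτ.2.2.1 θ hθm γ (zspanOn_mono (Set.subset_insert _ _) hγm)
    rw [← hagree γ hγm, hγ, iso_zspan_sub hτ₁ (zspan_natCast_smul _ (hz φ hφ))
      (zspan_natCast_smul _ (hz χ₁ hχ₁)), iso_zspan_natCast hτ₁ _ (hz φ hφ),
      iso_zspan_natCast hτ₁ _ (hz χ₁ hχ₁)] at h1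
    simp only [classInner_sub_right, classInner_smul_right, Complex.conj_natCast, hk] at h1
    have hd₁' : (d χ₁ : ℂ) ≠ 0 := Nat.cast_ne_zero.2 hd₁
    rw [hbθ χ₁ hχ₁, if_pos rfl] at h1
    push_cast
    field_simp
    linear_combination h1
  refine ⟨hform, ?_⟩
  have hterm : ∀ φ ∈ S₁, ‖classInner (τ θ) (τ₁ φ)‖ ^ 2 / (classInner (τ₁ φ) (τ₁ φ)).re =
      ((k + (a : ℤ) * n χ₁ : ℤ) : ℝ) ^ 2 / (d χ₁ : ℝ) ^ 2 * ((d φ : ℝ) ^ 2 / n φ) +
      if φ = χ₁ then (a : ℝ) ^ 2 * n χ₁ - 2 * a * ((k + (a : ℤ) * n χ₁ : ℤ) : ℝ) else 0 := by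
    intro φ hφ
    rw [hτ₁.2.2.1 _ (hz φ hφ) _ (hz φ hφ), hn φ hφ, Complex.natCast_re, hform φ hφ, hbθ φ hφ]
    have hnφ : (n φ : ℝ) ≠ 0 := Nat.cast_ne_zero.2 (hnpos φ hφ)
    have hd₁' : (d χ₁ : ℝ) ≠ 0 := Nat.cast_ne_zero.2 hd₁
    split_ifs with h
    · subst h
      rw [← Complex.ofReal_natCast, ← Complex.ofReal_natCast, ← Complex.ofReal_mul,
        ← Complex.ofReal_neg, ← Complex.ofReal_add, Complex.norm_real, Real.norm_eq_abs, sq_abs]
      field_simp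
      ring
    · rw [add_zero, add_zero, Complex.norm_real, Real.norm_eq_abs, sq_abs]
      field_simp
  rw [Finset.sum_congr rfl hterm, Finset.sum_add_distrib, ← Finset.mul_sum, Finset.sum_ite_eq',
    if_pos hχ₁]
  ring

/-- The quadratic in the shift is positive away from zero. -/
theorem shift_pos {a d e : ℕ} {Q0 : ℝ} (he : e ≠ 0) (hd : d = a * e)
    (h : (2 * d * e : ℝ) < Q0) {x : ℤ} (hx : x ≠ 0) :
    0 < (x : ℝ) ^ 2 * Q0 / (e : ℝ) ^ 2 - 2 * a * x := by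
  have he' : (0 : ℝ) < e := Nat.cast_pos.2 (Nat.pos_of_ne_zero he)
  have ha : (0 : ℝ) ≤ a := Nat.cast_nonneg a
  subst hd
  push_cast at h
  set q := Q0 / (e : ℝ) ^ 2 with hq
  have hq2 : 2 * (a : ℝ) < q := by rw [hq, lt_div_iff₀ (by positivity)]; nlinarith
  have hrw : (x : ℝ) ^ 2 * Q0 / (e : ℝ) ^ 2 = (x : ℝ) ^ 2 * q := by rw [hq]; ring
  rw [hrw]
  rcases lt_or_gt_of_ne hx with h' | h'
  · have : (x : ℝ) ≤ -1 := by exact_mod_cast (show x ≤ -1 by omega)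
    nlinarith [sq_nonneg ((x : ℝ) + 1)]
  · have : (1 : ℝ) ≤ x := by exact_mod_cast (show (1 : ℤ) ≤ x by omega)
    nlinarith [sq_nonneg ((x : ℝ) - 1)]

end Extend

end Cfsg.Agent.Coherence
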