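import Cfsg.Agent.Coherence.Dade
import Cfsg.Agent.S1496
import Mathlib.GroupTheory.SemidirectProduct

/-!
# The Dade map sends generalized characters to generalized characters

Dade's alternating-sum argument: for a class function `χ` of `G` the inner product of `χ` with
the image of `α` is an alternating sum, over nonempty subsets `B` of `A` up to `L`-conjugacy, of
inner products on the semidirect products of `⨅ b ∈ B, H b` with the stabilizer of `B` in `L`.
-/

namespace Cfsg.Agent.Coherence.Dade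

open scoped ComplexConjugate Classical

universe u

section Avg

variable {G : Type u} [Group G] [Fintype G]

/-- Averages of a class function over a coset of a coprime normalised subgroup. -/
theorem avg_coset (K : Subgroup G) (l : G) (hl : l ∈ Subgroup.normalizer (K : Set G))
    (hcop : Nat.Coprime (orderOf l) (Nat.card K)) {χ : G → ℂ} (hχ : IsClassFunction G χ) :
    (Nat.card (K ⊓ Subgroup.centralizer ({l} : Set G) : Subgroup G) : ℂ) *
        ∑ k : K, χ ((k : G) * l) =
      (Nat.card K : ℂ) *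
        ∑ c : (K ⊓ Subgroup.centralizer ({l} : Set G) : Subgroup G), χ ((c : G) * l) := by
  set C := K ⊓ Subgroup.centralizer ({l} : Set G) with hC
  have hCK : ∀ c : C, (c : G) ∈ K := fun c => c.2.1
  have hCl : ∀ c : C, Commute (c : G) l := fun c => (mem_centralizer_singleton.1 c.2.2).symm
  have hmem : ∀ y : K, ∀ c : C, (y : G) * ((c : G) * l) * (y : G)⁻¹ * l⁻¹ ∈ K := by
    intro y c
    have h1 := (Subgroup.mem_set_normalizer_iff.1 hl ((y : G)⁻¹)).1 (inv_mem y.2)
    have h2 : (y : G) * ((c : G) * l) * (y : G)⁻¹ * l⁻¹ =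
        (y : G) * c * (l * (y : G)⁻¹ * l⁻¹) := by group
    rw [h2]
    exact mul_mem (mul_mem y.2 (hCK c)) h1
  let Φ : K × C → K := fun p => ⟨_, hmem p.1 p.2⟩
  have hval : ∀ p, χ ((Φ p : G) * l) = χ ((p.2 : G) * l) := fun p => by
    show χ ((p.1 : G) * ((p.2 : G) * l) * (p.1 : G)⁻¹ * l⁻¹ * l) = _
    rw [inv_mul_cancel_right]
    exact hχ _ _
  have hrigid : ∀ z ∈ K, ∀ c c' : C, z * ((c' : G) * l) * z⁻¹ = (c : G) * l →
      z ∈ Subgroup.centralizer ({l} : Set G) := by
    intro z _ c c' h
    obtain ⟨k, hk1, hk0⟩ := Nat.chineseRemainder hcop 1 0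
    have hfix : ∀ d : C, ((d : G) * l) ^ k = l := fun d => by
      have h1 : l ^ k = l ^ 1 := pow_eq_pow_iff_modEq.2 hk1
      have h0 : (d : G) ^ k = (d : G) ^ 0 := pow_eq_pow_iff_modEq.2
        (hk0.of_dvd (Subgroup.orderOf_dvd_natCard _ (hCK d)))
      rw [(hCl d).mul_pow, h1, h0, pow_zero, pow_one, one_mul]
    have := congrArg (· ^ k) h
    simp only [conj_pow, hfix] at this
    rw [mem_centralizer_singleton]
    calc l * z = z * l * z⁻¹ * z := by rw [this]
      _ = z * l := by group
  have hfib : ∀ k : K, (Finset.univ.filter fun p => Φ p = k).card = Nat.card C := by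
    intro k
    obtain ⟨x, hx, c, hc, hcl, he⟩ := Cfsg.Agent.S1496.result K l hl hcop k k.2
    let c0 : C := ⟨c, hc, mem_centralizer_singleton.2 hcl.symm⟩
    rw [Nat.card_eq_fintype_card, ← Finset.card_univ]
    symm
    refine Finset.card_bij (fun z _ => ((⟨x⁻¹ * z, mul_mem (inv_mem hx) (hCK z)⟩ : K),
      z⁻¹ * c0 * z)) ?_ ?_ ?_
    · intro z _
      refine Finset.mem_filter.2 ⟨Finset.mem_univ _, Subtype.ext ?_⟩
      show x⁻¹ * (z : G) * ((((z⁻¹ * c0 * z : C)) : G) * l) * (x⁻¹ * (z : G))⁻¹ * l⁻¹ = k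
      simp only [Subgroup.coe_mul, Subgroup.coe_inv]
      have hz := (hCl z).eq
      calc x⁻¹ * (z : G) * (((z : G)⁻¹ * c * z) * l) * (x⁻¹ * (z : G))⁻¹ * l⁻¹
          = x⁻¹ * c * ((z : G) * l) * (z : G)⁻¹ * x * l⁻¹ := by group
        _ = x⁻¹ * c * (l * (z : G)) * (z : G)⁻¹ * x * l⁻¹ := by rw [hz]
        _ = x⁻¹ * (c * l) * x * l⁻¹ := by group
        _ = x⁻¹ * (x * ((k : G) * l) * x⁻¹) * x * l⁻¹ := by rw [he]
        _ = k := by group
    · intro z _ z' _ e
      have h1 := congrArg Subtype.val (Prod.mk.inj e).1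
      exact Subtype.ext (mul_left_cancel h1)
    · rintro ⟨y, c'⟩ hp
      have hp' := congrArg Subtype.val (Finset.mem_filter.1 hp).2
      change (y : G) * ((c' : G) * l) * (y : G)⁻¹ * l⁻¹ = k at hp'
      have hzz : x * y * ((c' : G) * l) * (x * y)⁻¹ = (c : G) * l := by
        rw [← he, ← hp']; group
      have hz : x * y ∈ C := ⟨mul_mem hx y.2, hrigid _ (mul_mem hx y.2) c0 c' hzz⟩
      refine ⟨⟨_, hz⟩, Finset.mem_univ _, Prod.ext (Subtype.ext (by simp)) (Subtype.ext ?_)⟩
      simp only [Subgroup.coe_mul, Subgroup.coe_inv]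
      have hcz := (hCl ⟨_, hz⟩).eq
      show (x * (y : G))⁻¹ * c * (x * y) = c'
      refine mul_right_cancel (b := l) ?_
      calc (x * (y : G))⁻¹ * c * (x * y) * l = (x * (y : G))⁻¹ * c * (x * y * l) := by group
        _ = (x * (y : G))⁻¹ * c * (l * (x * y)) := by rw [hcz]
        _ = (x * (y : G))⁻¹ * (c * l) * (x * y) := by group
        _ = (c' : G) * l := by rw [← hzz]; group
  have h1 : ∑ p : K × C, χ ((Φ p : G) * l) =
      (Nat.card C : ℂ) * ∑ k : K, χ ((k : G) * l) := by
    rw [← Finset.sum_fiberwise Finset.univ Φ, Finset.mul_sum]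
    refine Finset.sum_congr rfl fun k _ => ?_
    rw [Finset.sum_congr rfl (g := fun _ => χ ((k : G) * l))
      (fun p hp => by rw [(Finset.mem_filter.1 hp).2]), Finset.sum_const, hfib, nsmul_eq_mul]
  rw [← h1, Finset.sum_congr rfl (fun p _ => hval p), Fintype.sum_prod_type]
  simp only [Finset.sum_const, Finset.card_univ, Nat.card_eq_fintype_card, nsmul_eq_mul]

end Avg

section Alternating

variable {G : Type u} [Group G] [Fintype G] {A : Set G} {L : Subgroup G} [Fintype L]
  {H : G → Subgroup G}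

/-- The intersection of the `H b`, `b ∈ B`. -/
noncomputable def HB (H : G → Subgroup G) (B : Finset G) : Subgroup G := ⨅ b ∈ B, H b

omit [Fintype G] in
theorem mem_HB {B : Finset G} {h : G} : h ∈ HB H B ↔ ∀ b ∈ B, h ∈ H b := by
  simp [HB, Subgroup.mem_iInf]

/-- The stabilizer of `B` in `L`. -/
def NB (L : Subgroup G) (B : Finset G) : Subgroup G := L ⊓ Subgroup.normalizer (B : Set G)

/-- Conjugate of a finite subset. -/
noncomputable def cB (x : G) (B : Finset G) : Finset G := B.image fun b => x * b * x⁻¹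

omit [Fintype G] in
theorem mem_cB {x b : G} {B : Finset G} : b ∈ cB x B ↔ x⁻¹ * b * x ∈ B := by
  simp only [cB, Finset.mem_image]
  exact ⟨fun ⟨c, hc, e⟩ => by rw [← e]; simpa [mul_assoc] using hc,
    fun h => ⟨_, h, by group⟩⟩

omit [Fintype G] in
theorem cB_mul (x y : G) (B : Finset G) : cB (x * y) B = cB x (cB y B) := by
  ext b; simp [mem_cB, mul_assoc]

omit [Fintype G] in
theorem cB_one (B : Finset G) : cB 1 B = B := by
  ext b; simp [mem_cB]

omit [Fintype G] in
theorem card_cB (x : G) (B : Finset G) : (cB x B).card = B.card :=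
  Finset.card_image_of_injective _ fun a b h => by simpa using h

omit [Fintype G] in
theorem mem_normalizer_iff_cB {x : G} {B : Finset G} :
    x ∈ Subgroup.normalizer (B : Set G) ↔ cB x B = B := by
  rw [Subgroup.mem_set_normalizer_iff]
  constructor
  · intro h
    ext b
    rw [mem_cB, ← Finset.mem_coe, h]
    simp [mul_assoc]
  · intro h b
    constructor
    · intro hb
      rw [Finset.mem_coe, ← h, mem_cB]
      simpa [mul_assoc] using hb
    · intro hb
      rw [Finset.mem_coe, ← h, mem_cB] at hb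
      simpa [mul_assoc] using hb

omit [Fintype G] [Fintype L] in
theorem HB_le {B : Finset G} {b : G} (hb : b ∈ B) : HB H B ≤ H b :=
  fun _ hh => mem_HB.1 hh b hb

theorem HB_cB (hD : DadeHypothesis A L H) {B : Finset G} (hB : (B : Set G) ⊆ A) {x : G}
    (hx : x ∈ L) {h : G} : h ∈ HB H (cB x B) ↔ x⁻¹ * h * x ∈ HB H B := by
  simp only [mem_HB, mem_cB]
  constructor
  · intro hh b hb
    have h1 := hh (x * b * x⁻¹) (by simpa [mul_assoc] using hb)
    have := H_conj_mem hD (hD.conj_mem x hx b (hB hb)) (inv_mem hx) h1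
    simpa [mul_assoc] using this
  · intro hh b hb
    have := H_conj_mem hD (hB hb) hx (hh _ hb)
    simpa [mul_assoc] using this

theorem NB_le_normalizer (hD : DadeHypothesis A L H) {B : Finset G} (hB : (B : Set G) ⊆ A) :
    NB L B ≤ Subgroup.normalizer (HB H B : Set G) := by
  intro x hx
  rw [Subgroup.mem_set_normalizer_iff]
  intro h
  have h1 := mem_normalizer_iff_cB.1 hx.2
  simp only [SetLike.mem_coe]
  constructor
  · intro hh
    rw [← h1, HB_cB hD hB hx.1]
    simpa [mul_assoc] using hh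
  · intro hh
    rw [← h1, HB_cB hD hB hx.1] at hh
    simpa [mul_assoc] using hh

theorem card_HB_coprime (hD : DadeHypothesis A L H) {B : Finset G} (hB : (B : Set G) ⊆ A)
    (hne : B.Nonempty) {l : G} (hl : l ∈ A) :
    Nat.Coprime (Nat.card (HB H B)) (Nat.card (centL L l)) := by
  obtain ⟨b, hb⟩ := hne
  exact Nat.Coprime.coprime_dvd_left (Subgroup.card_dvd_of_le (HB_le hb))
    (hD.coprime b (hB hb) l hl)

theorem HB_insert (hD : DadeHypothesis A L H) {B : Finset G} (hB : (B : Set G) ⊆ A)
    (hne : B.Nonempty) {l : G} (hl : l ∈ A) :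
    HB H (insert l B) = HB H B ⊓ Subgroup.centralizer ({l} : Set G) := by
  ext c
  simp only [mem_HB, Finset.forall_mem_insert, Subgroup.mem_inf]
  refine ⟨fun h => ⟨h.2, hD.le_centralizer l hl h.1⟩, fun h => ⟨?_, h.1⟩⟩
  exact (mem_H_iff hD hl).2 ⟨h.2, Nat.Coprime.coprime_dvd_left
    (Subgroup.orderOf_dvd_natCard _ (mem_HB.2 h.1)) (card_HB_coprime hD hB hne hl)⟩

/-- Average of `χ` over the coset `HB H B * l`. -/
noncomputable def avg (H : G → Subgroup G) (χ : G → ℂ) (B : Finset G) (l : G) : ℂ :=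
  (Nat.card (HB H B) : ℂ)⁻¹ * ∑ h : HB H B, χ ((h : G) * l)

/-- The summand of the alternating sum attached to `B`. -/
noncomputable def term (H : G → Subgroup G) (α : L → ℂ) (χ : G → ℂ) (B : Finset G) : ℂ :=
  ∑ l : L, if (l : G) ∈ Subgroup.normalizer (B : Set G) then α l * conj (avg H χ B l) else 0

theorem sum_subgroup_eq {M : Type*} [AddCommMonoid M] {K K' : Subgroup G} (h : K = K')
    (f : G → M) : ∑ x : K, f x = ∑ x : K', f x := by
  subst h; rfl

theorem avg_insert (hD : DadeHypothesis A L H) {χ : G → ℂ} (hχ : IsClassFunction G χ)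
    {B : Finset G} (hB : (B : Set G) ⊆ A) (hne : B.Nonempty) {l : G} (hl : l ∈ A)
    (hlN : l ∈ Subgroup.normalizer (B : Set G)) :
    avg H χ (insert l B) l = avg H χ B l := by
  have h := avg_coset (HB H B) l (NB_le_normalizer hD hB ⟨hD.subset hl, hlN⟩)
    (Nat.Coprime.coprime_dvd_left (Subgroup.orderOf_dvd_natCard _ (self_mem_centL hD hl))
      (card_HB_coprime hD hB hne hl).symm) hχ
  rw [avg, avg, sum_subgroup_eq (HB_insert hD hB hne hl) (fun x => χ (x * l)),
    HB_insert hD hB hne hl]
  have h1 : (Nat.card (HB H B) : ℂ) ≠ 0 := Nat.cast_ne_zero.2 Nat.card_pos.ne'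
  have h2 : (Nat.card (HB H B ⊓ Subgroup.centralizer ({l} : Set G) : Subgroup G) : ℂ) ≠ 0 :=
    Nat.cast_ne_zero.2 Nat.card_pos.ne'
  field_simp
  linear_combination -h

omit [Fintype L] in
theorem normalizer_insert {B : Finset G} {l : G} :
    l ∈ Subgroup.normalizer ((insert l B : Finset G) : Set G) ↔
      l ∈ Subgroup.normalizer (B : Set G) := by
  simp only [Subgroup.mem_set_normalizer_iff, Finset.coe_insert, Set.mem_insert_iff]
  refine ⟨fun h x => ?_, fun h x => ?_⟩
  · by_cases hx : x = l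
    · subst hx; simp
    · have := h x
      simpa [hx, mul_inv_eq_iff_eq_mul] using this
  · rw [show (l * x * l⁻¹ = l ↔ x = l) by rw [mul_inv_eq_iff_eq_mul, mul_right_inj]]
    exact or_congr Iff.rfl (h x)

/-- Everything cancels except the singleton subsets. -/
theorem alternating_eq (hD : DadeHypothesis A L H) {α : L → ℂ}
    (hαA : ∀ x : L, (x : G) ∉ A → α x = 0) {χ : G → ℂ} (hχ : IsClassFunction G χ) :
    ∑ B ∈ (Finset.univ.filter (· ∈ A)).powerset.filter Finset.Nonempty,
        (-1 : ℂ) ^ B.card * term H α χ B =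
      -∑ l : L, if (l : G) ∈ A then α l * conj (avg H χ {(l : G)} l) else 0 := by
  set P := (Finset.univ.filter (· ∈ A)).powerset.filter Finset.Nonempty with hP
  have hPm : ∀ B, B ∈ P ↔ (B : Set G) ⊆ A ∧ B.Nonempty := fun B => by
    simp [hP, Finset.subset_iff, Set.subset_def]
  simp only [term, Finset.mul_sum]
  rw [Finset.sum_comm, ← Finset.sum_neg_distrib]
  refine Finset.sum_congr rfl fun l _ => ?_
  by_cases hl : (l : G) ∈ A
  swap
  · simp [hl, hαA l hl]
  rw [if_pos hl]
  set v : Finset G → ℂ := fun B => (-1 : ℂ) ^ B.card *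
    if (l : G) ∈ Subgroup.normalizer (B : Set G) then α l * conj (avg H χ B l) else 0 with hv
  have hsing : ({(l : G)} : Finset G) ∈ P := (hPm _).2 ⟨by simpa using hl, by simp⟩
  rw [← Finset.add_sum_erase P v hsing]
  have hval : v {(l : G)} = -(α l * conj (avg H χ {(l : G)} l)) := by
    have : (l : G) ∈ Subgroup.normalizer ({(l : G)} : Set G) := by
      rw [← Finset.coe_singleton, mem_normalizer_iff_cB]; simp [cB]
    simp [hv, this]
  have hrest : ∑ B ∈ P.erase {(l : G)}, v B = 0 := by
    have hins : ∀ B : Finset G, (B : Set G) ⊆ A → B.Nonempty → (l : G) ∉ B →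
        v B + v (insert (l : G) B) = 0 := by
      intro B hB hne hlB
      simp only [hv, Finset.card_insert_of_notMem hlB, pow_succ, normalizer_insert]
      split_ifs with h
      · rw [avg_insert hD hχ hB hne hl h]; ring
      · simp
    refine Finset.sum_involution
      (fun B _ => if (l : G) ∈ B then B.erase (l : G) else insert (l : G) B) ?_ ?_ ?_ ?_
    · intro B hB
      rw [Finset.mem_erase, hPm] at hB
      split_ifs with h
      · have hne : (B.erase (l : G)).Nonempty := by
          rw [Finset.nonempty_iff_ne_empty]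
          intro e
          rcases (Finset.erase_eq_empty_iff _ _).1 e with e' | e'
          · exact Finset.not_nonempty_empty (e' ▸ hB.2.2)
          · exact hB.1 e'
        have := hins _ ((Finset.coe_subset.2 (Finset.erase_subset _ _)).trans hB.2.1) hne
          (Finset.notMem_erase _ _)
        rwa [Finset.insert_erase h, add_comm] at this
      · exact hins B hB.2.1 hB.2.2 h
    · intro B hB _
      split_ifs with h
      · exact fun e => Finset.notMem_erase (l : G) B (e.symm ▸ h)
      · exact fun e => h (e ▸ Finset.mem_insert_self _ _)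
    · intro B hB
      rw [Finset.mem_erase, hPm] at hB ⊢
      split_ifs with h
      · refine ⟨fun e => ?_, (Finset.coe_subset.2 (Finset.erase_subset _ _)).trans hB.2.1, ?_⟩
        · exact Finset.notMem_erase (l : G) B (e ▸ Finset.mem_singleton_self _)
        · rw [Finset.nonempty_iff_ne_empty]
          intro e
          rcases (Finset.erase_eq_empty_iff _ _).1 e with e' | e'
          · exact Finset.not_nonempty_empty (e' ▸ hB.2.2)
          · exact hB.1 e'
      · refine ⟨fun e => ?_, by rw [Finset.coe_insert]; exact Set.insert_subset hl hB.2.1, by simp⟩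
        obtain ⟨b, hb⟩ := hB.2.2
        have := Finset.mem_singleton.1 (e ▸ Finset.mem_insert_of_mem hb : b ∈ ({(l : G)} : Finset G))
        exact h (this ▸ hb)
    · intro B hB
      by_cases h : (l : G) ∈ B
      · simp [h, Finset.notMem_erase, Finset.insert_erase h]
      · simp [h, Finset.erase_insert h]
  rw [hval, hrest, add_zero]

theorem term_int (hD : DadeHypothesis A L H) {α : L → ℂ} (hα : IsGeneralizedCharacter L α)
    {χ : G → ℂ} (hχ : IsGeneralizedCharacter G χ) {B : Finset G} (hB : (B : Set G) ⊆ A) :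
    ∃ k : ℤ, term H α χ B = (Nat.card (NB L B) : ℂ) * k := by
  set K := HB H B with hK
  set N := NB L B with hN
  let φ : N →* MulAut K :=
    (Subgroup.normalizerMonoidHom K).comp (Subgroup.inclusion (NB_le_normalizer hD hB))
  let M := K ⋊[φ] N
  let e : M ≃ K × N := SemidirectProduct.equivProd
  letI : Fintype M := Fintype.ofEquiv _ e.symm
  let f : M →* G := SemidirectProduct.lift K.subtype N.subtype (fun n => by
    ext k; rfl)
  let p : M →* L := (Subgroup.inclusion (show N ≤ L from inf_le_left)).comp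
    SemidirectProduct.rightHom
  obtain ⟨k, hk⟩ := Char.classInner_generalized_int (Char.isGeneralized_comp p hα)
    (Char.isGeneralized_comp f hχ)
  refine ⟨k, ?_⟩
  have hcard : (Nat.card M : ℂ) = (Nat.card K : ℂ) * Nat.card N := by
    rw [Nat.card_congr e, Nat.card_prod, Nat.cast_mul]
  have hf : ∀ q : K × N, f (e.symm q) = (q.1 : G) * q.2 := fun q => by
    have : e.symm q = ⟨q.1, q.2⟩ := rfl
    rw [this, SemidirectProduct.mk_eq_inl_mul_inr, map_mul, SemidirectProduct.lift_inl,
      SemidirectProduct.lift_inr]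
    rfl
  have hp : ∀ q : K × N, p (e.symm q) = ⟨q.2, q.2.2.1⟩ := fun q => rfl
  have hsum : ∑ m : M, α (p m) * conj (χ (f m)) =
      (Nat.card K : ℂ) * term H α χ B := by
    rw [← e.symm.sum_comp, Fintype.sum_prod_type, Finset.sum_comm, term, Finset.mul_sum]
    simp only [hf, hp]
    symm
    rw [← Finset.sum_filter_of_ne (s := Finset.univ)
      (p := fun l : L => (l : G) ∈ Subgroup.normalizer (B : Set G)) (fun l _ hne => by
        by_contra h; simp [h] at hne)]
    refine Finset.sum_bij (fun l hl => (⟨(l : G), l.2, (Finset.mem_filter.1 hl).2⟩ : N))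
      (fun _ _ => Finset.mem_univ _) (fun a _ b _ h => Subtype.ext (congrArg Subtype.val h : _))
      (fun n _ => ⟨⟨n, n.2.1⟩, Finset.mem_filter.2 ⟨Finset.mem_univ _, n.2.2⟩, rfl⟩) ?_
    intro l hl
    rw [if_pos (Finset.mem_filter.1 hl).2, avg, map_mul, map_inv₀, Complex.conj_natCast, map_sum,
      mul_left_comm, ← mul_assoc (Nat.card K : ℂ),
      mul_inv_cancel₀ (Nat.cast_ne_zero.2 Nat.card_pos.ne'), one_mul, Finset.mul_sum]
  rw [classInner, hcard, hsum] at hk
  have h1 : (Nat.card K : ℂ) ≠ 0 := Nat.cast_ne_zero.2 Nat.card_pos.ne'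
  have h2 : (Nat.card N : ℂ) ≠ 0 := Nat.cast_ne_zero.2 Nat.card_pos.ne'
  field_simp at hk
  linear_combination hk

theorem term_cB (hD : DadeHypothesis A L H) {α : L → ℂ} (hα : IsClassFunction L α) {χ : G → ℂ}
    (hχ : IsClassFunction G χ) {B : Finset G} (hB : (B : Set G) ⊆ A) {x : G} (hx : x ∈ L) :
    term H α χ (cB x B) = term H α χ B := by
  let X : L := ⟨x, hx⟩
  let e : L ≃ L := (MulAut.conj X).toEquiv
  rw [term, term, ← e.sum_comp]
  refine Finset.sum_congr rfl fun l _ => ?_
  have hel : ((e l : L) : G) = x * l * x⁻¹ := by simp [e, X]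
  have hiff : (x * (l : G) * x⁻¹) ∈ Subgroup.normalizer ((cB x B : Finset G) : Set G) ↔
      (l : G) ∈ Subgroup.normalizer (B : Set G) := by
    rw [mem_normalizer_iff_cB, mem_normalizer_iff_cB, ← cB_mul, inv_mul_cancel_right, cB_mul]
    refine ⟨fun h => ?_, fun h => by rw [h]⟩
    have := congrArg (cB x⁻¹) h
    simpa [← cB_mul, cB_one, mul_assoc] using this
  rw [hel]
  simp only [hiff]
  split_ifs with h
  swap
  · rfl
  have hα' : α (e l) = α l := hα l X
  rw [hα']
  congr 2
  simp only [avg]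
  let E : HB H B ≃ HB H (cB x B) :=
    { toFun := fun h => ⟨x * h * x⁻¹, (HB_cB hD hB hx).2 (by simpa [mul_assoc] using h.2)⟩
      invFun := fun h => ⟨x⁻¹ * h * x, (HB_cB hD hB hx).1 h.2⟩
      left_inv := fun h => Subtype.ext (by simp [mul_assoc])
      right_inv := fun h => Subtype.ext (by simp [mul_assoc]) }
  rw [← E.sum_comp, Nat.card_congr E.symm]
  congr 1
  refine Finset.sum_congr rfl fun h _ => ?_
  show χ (x * (h : G) * x⁻¹ * (x * (l : G) * x⁻¹)) = _
  rw [show x * (h : G) * x⁻¹ * (x * (l : G) * x⁻¹) = x * ((h : G) * l) * x⁻¹ by group]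
  exact hχ _ _

theorem card_NB_eq (B : Finset G) :
    Nat.card (NB L B) = (Finset.univ.filter fun x : L => cB (x : G) B = B).card := by
  rw [← Fintype.card_subtype, ← Nat.card_eq_fintype_card]
  exact Nat.card_congr
    { toFun := fun x => ⟨⟨x, x.2.1⟩, mem_normalizer_iff_cB.1 x.2.2⟩
      invFun := fun x => ⟨x.1, x.1.2, mem_normalizer_iff_cB.2 x.2⟩
      left_inv := fun x => rfl
      right_inv := fun x => rfl }

/-- Dade's theorem: the inner product with a generalized character is an integer. -/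
theorem inner_dade_int (hD : DadeHypothesis A L H) {α : L → ℂ} (hα : IsGeneralizedCharacter L α)
    (hαA : ∀ x : L, (x : G) ∉ A → α x = 0) {χ : G → ℂ} (hχ : IsGeneralizedCharacter G χ) :
    ∃ k : ℤ, classInner (dadeIsometry A L H α) χ = k := by
  have hαc := Char.IsGen.isClassFunction hα
  have hχc := Char.IsGen.isClassFunction hχ
  set P := (Finset.univ.filter (· ∈ A)).powerset.filter Finset.Nonempty with hP
  have hPm : ∀ B, B ∈ P ↔ (B : Set G) ⊆ A ∧ B.Nonempty := fun B => by
    simp [hP, Finset.subset_iff, Set.subset_def]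
  set orb : Finset G → Finset (Finset G) :=
    fun B => Finset.univ.image (fun x : L => cB (x : G) B) with horb
  have horb_sub : ∀ B ∈ P, orb B ⊆ P := by
    intro B hB C hC
    obtain ⟨x, -, rfl⟩ := Finset.mem_image.1 hC
    rw [hPm] at hB ⊢
    refine ⟨fun b hb => ?_, hB.2.image _⟩
    obtain ⟨c, hc, rfl⟩ := Finset.mem_image.1 (Finset.mem_coe.1 hb)
    exact hD.conj_mem x x.2 c (hB.1 hc)
  have horb_eq : ∀ B C, C ∈ orb B → orb C = orb B := by
    intro B C hC
    obtain ⟨x, -, rfl⟩ := Finset.mem_image.1 hC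
    ext D
    simp only [horb, Finset.mem_image, Finset.mem_univ, true_and, ← cB_mul]
    exact ⟨fun ⟨y, hy⟩ => ⟨y * x, by simpa using hy⟩,
      fun ⟨y, hy⟩ => ⟨y * x⁻¹, by simpa using hy⟩⟩
  have hfib : ∀ B ∈ P, P.filter (fun C => orb C = orb B) = orb B := by
    intro B hB
    ext C
    refine ⟨fun h => ?_, fun h => Finset.mem_filter.2 ⟨horb_sub B hB h, horb_eq B C h⟩⟩
    rw [← (Finset.mem_filter.1 h).2]
    exact Finset.mem_image.2 ⟨1, Finset.mem_univ _, by simp [cB_one]⟩
  choose! z hz using fun B (hB : B ∈ P) => term_int hD hα hχ ((hPm B).1 hB).1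
  have hsum : ∀ B ∈ P, ∑ C ∈ orb B, (-1 : ℂ) ^ C.card * term H α χ C =
      (Nat.card L : ℂ) * (((-1) ^ B.card * z B : ℤ) : ℂ) := by
    intro B hB
    have hB' := ((hPm B).1 hB).1
    have hstep : ∀ C ∈ orb B, (-1 : ℂ) ^ C.card * term H α χ C =
        (((Finset.univ.filter fun x : L => cB (x : G) B = C).card : ℕ) : ℂ) *
          (((-1) ^ B.card * z B : ℤ) : ℂ) := by
      intro C hC
      obtain ⟨x, -, rfl⟩ := Finset.mem_image.1 hC
      have hcard : (Finset.univ.filter fun y : L => cB (y : G) B = cB (x : G) B).card =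
          Nat.card (NB L B) := by
        rw [card_NB_eq]
        refine Finset.card_bij (fun y _ => x⁻¹ * y) ?_ (fun _ _ _ _ h => mul_left_cancel h) ?_
        · intro y hy
          simp only [Finset.mem_filter, Finset.mem_univ, true_and, Subgroup.coe_mul,
            Subgroup.coe_inv] at hy ⊢
          rw [cB_mul, hy, ← cB_mul, inv_mul_cancel, cB_one]
        · intro y hy
          simp only [Finset.mem_filter, Finset.mem_univ, true_and] at hy
          refine ⟨x * y, Finset.mem_filter.2 ⟨Finset.mem_univ _, ?_⟩, by group⟩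
          rw [Subgroup.coe_mul, cB_mul, hy]
      rw [card_cB, term_cB hD hαc hχc hB' x.2, hcard, hz B hB]
      push_cast
      ring
    rw [Finset.sum_congr rfl hstep, ← Finset.sum_mul, ← Nat.cast_sum,
      ← Finset.card_eq_sum_card_fiberwise (fun x _ => Finset.mem_image_of_mem _ (Finset.mem_univ x)),
      Finset.card_univ, ← Nat.card_eq_fintype_card]
  have htot : ∃ k : ℤ, ∑ B ∈ P, (-1 : ℂ) ^ B.card * term H α χ B = (Nat.card L : ℂ) * k := by
    rw [← Finset.sum_fiberwise_of_maps_to (t := P.image orb)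
      (fun B hB => Finset.mem_image_of_mem orb hB)]
    refine Finset.sum_induction _ (fun v : ℂ => ∃ k : ℤ, v = (Nat.card L : ℂ) * k)
      (fun a b ⟨ka, ha⟩ ⟨kb, hb⟩ => ⟨ka + kb, by rw [ha, hb]; push_cast; ring⟩) ⟨0, by simp⟩ ?_
    intro O hO
    obtain ⟨B, hB, rfl⟩ := Finset.mem_image.1 hO
    rw [hfib B hB, hsum B hB]
    exact ⟨_, rfl⟩
  obtain ⟨k, hk⟩ := htot
  refine ⟨-k, ?_⟩
  rw [inner_dade hD α hαc hαA χ
    (fun a : L => (Nat.card (H (a : G)) : ℂ)⁻¹ * ∑ᶠ u ∈ (H (a : G) : Set G), χ ((a : G) * u))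
    hχc (fun a _ => rfl), classInner]
  have halt := alternating_eq hD hαA hχc
  rw [← hP, hk] at halt
  have hLne : (Nat.card L : ℂ) ≠ 0 := Nat.cast_ne_zero.2 Nat.card_pos.ne'
  rw [inv_mul_eq_iff_eq_mul₀ hLne]
  push_cast
  rw [mul_neg, halt, neg_neg]
  refine Finset.sum_congr rfl fun l _ => ?_
  split_ifs with hl
  swap
  · rw [hαA l hl, zero_mul]
  congr 2
  have hsing : HB H {(l : G)} = H (l : G) := by ext; simp [mem_HB]
  rw [avg, sum_subgroup_eq hsing (fun x => χ (x * (l : G))), hsing,
    finsum_mem_eq_finite_toFinset_sum _ (Set.toFinite _)]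
  congr 1
  refine Finset.sum_bij (fun u hu => (⟨u, by simpa using hu⟩ : H (l : G)))
    (fun _ _ => Finset.mem_univ _) (fun a _ b _ h => congrArg Subtype.val h)
    (fun b _ => ⟨b, by simp, rfl⟩) (fun u hu => ?_)
  have hu' : u ∈ H (l : G) := by simpa using hu
  rw [(comm_of_mem hD hl hu').eq]

/-- The Dade map sends generalized characters supported on `A` to generalized characters. -/
theorem isGeneralized_dade (hD : DadeHypothesis A L H) {α : L → ℂ}
    (hα : IsGeneralizedCharacter L α) (hαA : ∀ x : L, (x : G) ∉ A → α x = 0) :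
    IsGeneralizedCharacter G (dadeIsometry A L H α) :=
  Char.isGeneralized_iff.2 ⟨isClassFunction_dade hD (Char.IsGen.isClassFunction hα), fun ψ =>
    inner_dade_int hD hα hαA (Char.isGeneralized_of_isCharacter (Char.IsIrr.isCharacter ψ.2))⟩

end Alternating

end Cfsg.Agent.Coherence.Dade
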