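import Cfsg.Agent.Coherence.FrobFamily

/-!
# No odd order group is covered by two or more Frobenius TI families

The final counting step of the theorem on CN-groups of odd order, done without coherence of the
nonlinear characters: for a family `j` with least index `e`, the image of `ρ - χ` (with `ρ` induced
from the principal character of the kernel) has too little norm to make the exceptional character of
`χ` vanish on the other families.
-/

namespace Cfsg.Agent.Coherence.FeitFinal

open scoped ComplexConjugate Classical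
open FrobFamily
open Cfsg.Agent.Char (classInner_add_left classInner_add_right classInner_sub_left
  classInner_sub_right classInner_neg_left classInner_neg_right classInner_smul_left
  classInner_smul_right classInner_zero_left classInner_zero_right classInner_sum_left
  classInner_sum_right classInner_conj_symm classInner_self_eq classInner_self_eq_zero)

universe u w

variable {G : Type u} [Group G] [Fintype G] {ι : Type w} [Fintype ι] {H : ι → Subgroup G}

theorem conjFun_ind (K : Subgroup G) (α : Lof K → ℂ) :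
    conjFun (ind K α) = ind K (conjFun α) := by
  funext g
  simp only [ind, conjFun, dadeIsometry]
  split_ifs <;> simp

theorem Bof_disjoint (hcop : ∀ i j, i ≠ j → Nat.Coprime (Nat.card (H i)) (Nat.card (H j)))
    {i j : ι} (hij : i ≠ j) {g : G} (hi : g ∈ Bof (H i)) : g ∉ Bof (H j) := by
  intro hj
  obtain ⟨x, hx, hg⟩ := mem_Bof.1 hi
  obtain ⟨y, hy, -⟩ := mem_Bof.1 hj
  have h1 := Subgroup.orderOf_dvd_natCard _ hx
  have h2 := Subgroup.orderOf_dvd_natCard _ hy
  rw [← MulAut.conj_apply, MulEquiv.orderOf_eq] at h1 h2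
  exact hg (orderOf_eq_one_iff.1 (Nat.dvd_one.1 (hcop i j hij ▸ Nat.dvd_gcd h1 h2)))

/-- A character which is not real on one cover is real off it. -/
theorem real_off (hG : ∀ i, Good (H i)) {i : ι} {ψ : IrrCharacter G}
    (hn : ∃ g ∈ Bof (H i), (ψ : G → ℂ) g ≠ conj ((ψ : G → ℂ) g)) {g : G} (hg : g ∉ Bof (H i)) :
    (ψ : G → ℂ) g = conj ((ψ : G → ℂ) g) := by
  obtain ⟨θ, hθ, hoff, hne⟩ := nonreal_detect (hG i) ψ.2 hn
  obtain ⟨ν, hν, hνe⟩ := exists_mu (hG i) hθ hoff
  rw [hνe] at hne
  have hνr : ν g = conj (ν g) := by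
    have h := congrFun hνe g
    rw [ind_eq_zero (hG i) _ hg] at h
    exact sub_eq_zero.1 h.symm
  have hcases : (ψ : G → ℂ) = ν ∨ (ψ : G → ℂ) = conjFun ν := by
    by_contra! hno
    apply hne
    have h1 := Char.classInner_irr_ne hν ψ.2 hno.1.symm
    have h2 := Char.classInner_irr_ne (isIrr_conjFun hν) ψ.2 hno.2.symm
    have h3 := Char.classInner_irr_ne hν (isIrr_conjFun ψ.2) (fun e => hno.2 (by
      rw [e, conjFun_conjFun]))
    have h4 := Char.classInner_irr_ne (isIrr_conjFun hν) (isIrr_conjFun ψ.2) (fun e => hno.1 (by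
      rw [← conjFun_conjFun (ψ : G → ℂ), ← e, conjFun_conjFun]))
    simp [classInner_sub_left, classInner_sub_right, h1, h2, h3, h4]
  rcases hcases with e | e <;> rw [e]
  · exact hνr
  · simp only [conjFun, Complex.conj_conj]; exact hνr.symm

/-- The covered families are few and carry the rest of the norm. -/
theorem main_bound (hodd : Odd (Nat.card G)) (hG : ∀ i, Good (H i))
    (hcop : ∀ i j, i ≠ j → Nat.Coprime (Nat.card (H i)) (Nat.card (H j)))
    (hcover : ∀ g : G, g ≠ 1 → ∃ i, ∃ x : G, x * g * x⁻¹ ∈ H i) (j : ι)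
    [Fintype (Nof (H j) →* ℂˣ)] {χ : Lof (H j) → ℂ}
    (hχ : χ ∈ FrobKernel.linFamily (Nof (H j))) {μ : G → ℂ} (hμ : IsIrrCharacter G μ)
    (hμe : ind (H j) (χ - conjFun χ) = μ - conjFun μ) :
    ∃ C : Finset ι, j ∉ C ∧ 2 * C.card + 1 ≤ (Nof (H j)).index ∧
      ∑ g ∈ Bof (H j), Complex.normSq (μ g) ≤
        ((Bof (H j)).card : ℝ) + ∑ i ∈ C, ((Bof (H i)).card : ℝ) := by
  have hC := cent_le (hG j)
  have hoddL : Odd (Nat.card (Lof (H j))) := hodd.of_dvd_nat (Subgroup.card_subgroup_dvd_card _)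
  have hχirr := FrobKernel.linFamily_irr hC hχ
  have hχne := FrobKernel.linFamily_conj_ne hC hoddL (Nof_ne_top (hG j)) hχ
  obtain ⟨f₀, hf₀, hf₀e⟩ := FrobKernel.mem_linFamily.1 hχ
  set ρ := indFun (Nof (H j)) (fun _ => (1 : ℂ)) with hρ
  have h1irr : IsIrrCharacter (Nof (H j)) (fun _ => (1 : ℂ)) := Char.isIrrCharacter_one
  have hρρ : classInner ρ ρ = ((Nof (H j)).index : ℂ) := by
    rw [hρ, Char.classInner_indFun_indFun h1irr h1irr]
    have : Nat.card {g : Lof (H j) // Char.conjFun g (fun _ : (Nof (H j)) => (1 : ℂ)) = fun _ => 1} =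
        Nat.card (Nof (H j)) * (Nof (H j)).index := by
      rw [Subgroup.card_mul_index]
      exact Nat.card_congr (Equiv.subtypeUnivEquiv fun g => rfl)
    rw [this, Nat.cast_mul, ← mul_assoc,
      inv_mul_cancel₀ (Nat.cast_ne_zero.2 Nat.card_pos.ne'), one_mul]
  have hρχ : classInner ρ χ = 0 := by
    rw [hρ, ← hf₀e, Char.classInner_indFun_indFun h1irr
      (show IsIrrCharacter (Nof (H j)) (FrobKernel.linFun f₀) from Char.isIrrCharacter_hom f₀)]
    have : IsEmpty {g : Lof (H j) // Char.conjFun g (fun _ : (Nof (H j)) => (1 : ℂ)) =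
        FrobKernel.linFun f₀} := ⟨fun g => FrobKernel.linFun_ne_one hf₀ g.2.symm⟩
    simp
  have hρgen : IsCharacter (Lof (H j)) ρ := Char.isCharacter_indFun (Nof (H j)) Char.isCharacter_one
  set α := ρ - χ with hα
  have hαgen : IsGeneralizedCharacter (Lof (H j)) α := Char.isGeneralized_sub
    (Char.isGeneralized_of_isCharacter hρgen)
    (Char.isGeneralized_of_isCharacter (Char.IsIrr.isCharacter hχirr))
  have hαA : ∀ x : Lof (H j), (x : G) ∉ Aof (H j) → α x = 0 := supp_of_off
    (by simp [hα, hρ, Char.indFun_apply_one, FrobKernel.linFamily_apply_one hχ])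
    (fun x hx => by
      simp [hα, hρ, Char.indFun_apply_of_normal (Nof (H j)) _ hx, FrobKernel.linFamily_off hχ hx])
  have hαc := Char.IsGen.isClassFunction hαgen
  set γ := ind (H j) α with hγ
  have hγgen : IsGeneralizedCharacter G γ := Dade.isGeneralized_dade (dadeHyp (hG j)) hαgen hαA
  have hγγ : classInner γ γ = ((Nof (H j)).index : ℂ) + 1 := by
    rw [hγ, inner_ind_ind (hG j) hαc hαA hαc, hα]
    simp [classInner_sub_left, classInner_sub_right, hρρ, hρχ, inner_eq_zero_comm hρχ,
      Char.classInner_irr_self hχirr]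
  set one : IrrCharacter G := ⟨_, Char.isIrrCharacter_one⟩ with hone
  have hγone : classInner γ (one : G → ℂ) = 1 := by
    rw [hγ, inner_ind_restrict (hG j) hαc hαA (Char.isClassFunction_of_isIrr one.2)
      (β := fun _ => (1 : ℂ)) (fun a _ => rfl), hα, classInner_sub_left]
    have h1 : classInner ρ (fun _ => (1 : ℂ)) = 1 := by
      rw [hρ, Char.classInner_indFun_left (Nof (H j)) _
        (Char.isClassFunction_of_isIrr Char.isIrrCharacter_one)]
      exact Char.classInner_irr_self h1irr
    have h2 : classInner χ (fun _ => (1 : ℂ)) = 0 :=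
      Char.classInner_irr_ne hχirr Char.isIrrCharacter_one fun e => hχne (by
        rw [e]; funext x; simp [conjFun])
    rw [h1, h2, sub_zero]
  obtain ⟨m, hm, hexp, hnorm⟩ := Char.IsGen.exists_mult hγgen
  have hsq : ∑ ψ : IrrCharacter G, m ψ ^ 2 = ((Nof (H j)).index : ℤ) + 1 := by
    rw [hγγ] at hnorm; exact_mod_cast hnorm.symm
  have hmone : m one = 1 := by
    have := hm one
    rw [hγone] at this
    exact_mod_cast this.symm
  set M : IrrCharacter G := ⟨μ, hμ⟩ with hM
  set σ : IrrCharacter G → IrrCharacter G := fun ψ => Char.conjIrr ψ with hσ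
  have hσσ : ∀ ψ, σ (σ ψ) = ψ := Char.conjIrr_conjIrr
  have hσval : ∀ ψ, (σ ψ : G → ℂ) = conjFun (ψ : G → ℂ) := fun ψ => rfl
  have hMσ : M ≠ σ M := by
    intro e
    have h := congrArg Subtype.val e
    rw [hσval] at h
    have h0 : ind (H j) (χ - conjFun χ) = 0 := by rw [hμe]; exact sub_eq_zero.2 h
    have hθgen : IsGeneralizedCharacter (Lof (H j)) (χ - conjFun χ) := Char.isGeneralized_sub
      (Char.isGeneralized_of_isCharacter (Char.IsIrr.isCharacter hχirr))
      (Char.isGeneralized_of_isCharacter (Char.IsIrr.isCharacter (isIrr_conjFun hχirr)))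
    have hθA : ∀ x : Lof (H j), (x : G) ∉ Aof (H j) → (χ - conjFun χ) x = 0 := supp_of_off
      (by simp [isChar_conjFun_one (Char.IsIrr.isCharacter hχirr)])
      (fun x hx => by simp [conjFun, FrobKernel.linFamily_off hχ hx])
    have h2 := inner_ind_ind (hG j) (Char.IsGen.isClassFunction hθgen) hθA
      (Char.IsGen.isClassFunction hθgen)
    rw [h0, classInner_zero_left, eq_comm, classInner_self_eq_zero, sub_eq_zero] at h2
    exact hχne h2.symm
  have hconjγ : conjFun γ = γ + (μ - conjFun μ) := by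
    rw [hγ, conjFun_ind, ← hμe, ← ind_add]
    congr 1
    have hρreal : conjFun ρ = ρ := by
      funext x
      simp only [conjFun, hρ, Char.indFun_apply, map_mul, map_inv₀, Complex.conj_natCast, map_sum]
      congr 1
      refine Finset.sum_congr rfl fun y _ => ?_
      by_cases hy : y⁻¹ * x * y ∈ (Nof (H j))
      · rw [Char.extendByZero_of_mem _ _ hy, map_one]
      · rw [Char.extendByZero_of_not_mem _ _ hy, map_zero]
    funext x
    have := congrFun hρreal x
    simp only [hα, conjFun, Pi.sub_apply, Pi.add_apply, map_sub] at this ⊢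
    rw [this]; ring
  have hmσ : ∀ ψ, m (σ ψ) = m ψ + (if ψ = M then 1 else 0) - (if ψ = σ M then 1 else 0) := by
    intro ψ
    have h1 : classInner (conjFun γ) (ψ : G → ℂ) = (m (σ ψ) : ℂ) := by
      conv_lhs => rw [← conjFun_conjFun (ψ : G → ℂ), classInner_conjFun, ← hσval,
        ← classInner_conj_symm, hm]
      simp
    rw [hconjγ, classInner_add_left, hm, classInner_sub_left,
      show classInner μ (ψ : G → ℂ) = _ from Char.classInner_irrChar M ψ,
      show classInner (conjFun μ) (ψ : G → ℂ) = _ from Char.classInner_irrChar (σ M) ψ] at h1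
    have h2 : (m (σ ψ) : ℂ) = ((m ψ + (if ψ = M then 1 else 0) -
        (if ψ = σ M then 1 else 0) : ℤ) : ℂ) := by
      rw [← h1]
      push_cast
      simp only [eq_comm (a := M), eq_comm (a := σ M)]
      ring
    exact_mod_cast h2
  set covered : ι → Prop := fun i => ∃ ψ : IrrCharacter G, m ψ ≠ 0 ∧ ψ ≠ M ∧ ψ ≠ σ M ∧
    ∃ g ∈ Bof (H i), (ψ : G → ℂ) g ≠ conj ((ψ : G → ℂ) g) with hcov
  set C := Finset.univ.filter (fun i => i ≠ j ∧ covered i) with hCdef
  refine ⟨C, fun h => (Finset.mem_filter.1 h).2.1 rfl, ?_, ?_⟩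
  · -- counting the constituents
    have hex : ∀ i ∈ C, covered i := fun i hi => (Finset.mem_filter.1 hi).2.2
    have : Nonempty (IrrCharacter G) := ⟨one⟩
    choose! P hP0 hPM hPσ hPn using hex
    have honeσ : σ one = one := Subtype.ext (funext fun g => map_one _)
    have hMone : M ≠ one := fun e => hMσ (by rw [e, honeσ])
    have hσMone : σ M ≠ one := fun e => hMone (by rw [← hσσ M, e, honeσ])
    have hPone : ∀ i ∈ C, P i ≠ one := fun i hi e => by
      obtain ⟨g, -, hne⟩ := hPn i hi
      rw [e] at hne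
      exact hne (map_one _).symm
    have huniq : ∀ i ∈ C, ∀ i' ∈ C, (P i = P i' ∨ σ (P i) = P i') → i = i' := by
      intro i hi i' hi' he
      by_contra hne
      obtain ⟨g, hg, hgn⟩ := hPn i' hi'
      have hr := real_off hG (hPn i hi) (g := g) (Bof_disjoint hcop (Ne.symm hne) hg)
      rcases he with e | e <;> rw [← e] at hgn
      · exact hgn hr
      · rw [hσval] at hgn
        simp only [conjFun, Complex.conj_conj] at hgn
        exact hgn hr.symm
    have hσne : ∀ i ∈ C, σ (P i) ≠ P i := fun i hi e => by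
      obtain ⟨g, -, hne⟩ := hPn i hi
      exact hne (congrFun (congrArg Subtype.val e) g).symm
    set T1 : Finset (IrrCharacter G) := C.image P with hT1
    set T2 : Finset (IrrCharacter G) := C.image (fun i => σ (P i)) with hT2
    have hc1 : T1.card = C.card :=
      Finset.card_image_of_injOn fun i hi i' hi' e => huniq i hi i' hi' (Or.inl e)
    have hc2 : T2.card = C.card := Finset.card_image_of_injOn fun i hi i' hi' e =>
      huniq i hi i' hi' (Or.inl (by rw [← hσσ (P i), e, hσσ]))
    have hd : Disjoint T1 T2 := by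
      rw [Finset.disjoint_left]
      rintro ψ h1 h2
      obtain ⟨i, hi, rfl⟩ := Finset.mem_image.1 h1
      obtain ⟨i', hi', e⟩ := Finset.mem_image.1 h2
      have := huniq i' hi' i hi (Or.inr e)
      subst this
      exact hσne i' hi' e
    have hd3 : Disjoint (T1 ∪ T2) ({one, M, σ M} : Finset (IrrCharacter G)) := by
      rw [Finset.disjoint_left]
      intro ψ hψ hψ'
      simp only [Finset.mem_insert, Finset.mem_singleton] at hψ'
      rcases Finset.mem_union.1 hψ with h | h <;> obtain ⟨i, hi, rfl⟩ := Finset.mem_image.1 h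
      · rcases hψ' with e | e | e
        · exact hPone i hi e
        · exact hPM i hi e
        · exact hPσ i hi e
      · rcases hψ' with e | e | e
        · exact hPone i hi (by rw [← hσσ (P i), e, honeσ])
        · exact hPσ i hi (by rw [← e, hσσ])
        · exact hPM i hi (by rw [← hσσ (P i), e, hσσ])
    have hlow : ∀ ψ ∈ T1 ∪ T2, 1 ≤ m ψ ^ 2 := by
      intro ψ hψ
      have hne : m ψ ≠ 0 := by
        rcases Finset.mem_union.1 hψ with h | h <;> obtain ⟨i, hi, rfl⟩ := Finset.mem_image.1 h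
        · exact hP0 i hi
        · rw [hmσ, if_neg (hPM i hi), if_neg (hPσ i hi)]; simpa using hP0 i hi
      have := pow_pos (abs_pos.2 hne) 2
      rw [sq_abs] at this
      omega
    have hthree : 2 ≤ ∑ ψ ∈ ({one, M, σ M} : Finset (IrrCharacter G)), m ψ ^ 2 := by
      rw [Finset.sum_insert (by simp [hMone.symm, hσMone.symm]), Finset.sum_pair hMσ, hmone]
      have h := hmσ M
      rw [if_pos rfl, if_neg hMσ, sub_zero] at h
      rw [h]
      rcases le_or_gt 0 (m M) with hp | hp <;> nlinarith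
    have hbig := Finset.sum_le_sum_of_subset_of_nonneg
      (Finset.subset_univ ((T1 ∪ T2) ∪ ({one, M, σ M} : Finset (IrrCharacter G))))
      (fun ψ _ _ => sq_nonneg (m ψ)) (f := fun ψ => m ψ ^ 2)
    rw [Finset.sum_union hd3, hsq] at hbig
    have hcount : ((T1 ∪ T2).card : ℤ) ≤ ∑ ψ ∈ T1 ∪ T2, m ψ ^ 2 := by
      have := Finset.card_nsmul_le_sum (T1 ∪ T2) (fun ψ => m ψ ^ 2) 1 hlow
      simpa using this
    rw [Finset.card_union_of_disjoint hd, hc1, hc2] at hcount
    push_cast at hcount
    omega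
  · -- the norm of `μ`
    have hμreal : ∀ g, g ∉ Bof (H j) → μ g = conj (μ g) := fun g hg => by
      have h := congrFun hμe g
      rw [ind_eq_zero (hG j) _ hg] at h
      exact sub_eq_zero.1 h.symm
    have hnz : ∀ i, i ≠ j → i ∉ C → ∀ g ∈ Bof (H i), μ g ≠ 0 := by
      intro i hij hiC g hg hμ0
      have hgj : g ∉ Bof (H j) := Bof_disjoint hcop hij hg
      have hγ0 : γ g = 0 := ind_eq_zero (hG j) _ hgj
      rw [hexp, Finset.sum_apply] at hγ0
      set F : IrrCharacter G → ℂ := fun ψ => (m ψ : ℂ) * (ψ : G → ℂ) g with hF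
      set R := Finset.univ.filter (fun ψ : IrrCharacter G => ψ ≠ one ∧ ψ ≠ M ∧ ψ ≠ σ M) with hR
      have honeσ : σ one = one := Subtype.ext (funext fun g => map_one _)
      have hσR : ∀ ψ ∈ R, σ ψ ∈ R := by
        intro ψ hψ
        obtain ⟨-, h1, h2, h3⟩ := Finset.mem_filter.1 hψ
        exact Finset.mem_filter.2 ⟨Finset.mem_univ _,
          fun e => h1 (by rw [← hσσ ψ, e, honeσ]),
          fun e => h3 (by rw [← e, hσσ]), fun e => h2 (by rw [← hσσ ψ, e, hσσ])⟩
      have hFσ : ∀ ψ ∈ R, F (σ ψ) = F ψ := by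
        intro ψ hψ
        obtain ⟨-, -, h2, h3⟩ := Finset.mem_filter.1 hψ
        simp only [hF, hmσ, if_neg h2, if_neg h3, add_zero, sub_zero]
        rcases eq_or_ne (m ψ) 0 with hz | hz
        · simp [hz]
        · have hreal : (ψ : G → ℂ) g = conj ((ψ : G → ℂ) g) := by
            by_contra hn
            exact hiC (Finset.mem_filter.2 ⟨Finset.mem_univ _, hij, ψ, hz, h2, h3, g, hg, hn⟩)
          rw [hσval, conjFun, ← hreal]
      have hfix : ∀ ψ ∈ R, σ ψ ≠ ψ := by
        intro ψ hψ e
        have h := Char.real_irr_eq_one hodd ψ.2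
          (fun x => Complex.conj_eq_iff_im.1 (congrFun (congrArg Subtype.val e) x))
        exact (Finset.mem_filter.1 hψ).2.1 (Subtype.ext h)
      let enum := Fintype.equivFin (IrrCharacter G)
      set R0 := R.filter (fun ψ => enum ψ < enum (σ ψ)) with hR0
      have hhalf : ∑ ψ ∈ R, F ψ = 2 * ∑ ψ ∈ R0, F ψ := by
        rw [← Finset.sum_filter_add_sum_filter_not R (fun ψ => enum ψ < enum (σ ψ)), ← hR0]
        have : ∑ ψ ∈ R.filter (fun ψ => ¬ enum ψ < enum (σ ψ)), F ψ = ∑ ψ ∈ R0, F ψ := by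
          refine Finset.sum_bij (fun ψ _ => σ ψ) ?_ ?_ ?_ ?_
          · intro ψ hψ
            obtain ⟨h1, h2⟩ := Finset.mem_filter.1 hψ
            refine Finset.mem_filter.2 ⟨hσR ψ h1, ?_⟩
            rw [hσσ]
            exact lt_of_le_of_ne (not_lt.1 h2) fun e => hfix ψ h1 (enum.injective e)
          · intro a _ b _ e
            rw [← hσσ a, e, hσσ]
          · intro ψ hψ
            obtain ⟨h1, h2⟩ := Finset.mem_filter.1 hψ
            exact ⟨σ ψ, Finset.mem_filter.2 ⟨hσR ψ h1, by rw [hσσ]; exact not_lt.2 h2.le⟩,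
              hσσ ψ⟩
          · intro ψ hψ
            exact (hFσ ψ (Finset.mem_filter.1 hψ).1).symm
        rw [this]; ring
      have hsplit : ∑ ψ : IrrCharacter G, F ψ = 1 + ∑ ψ ∈ R, F ψ := by
        rw [← Finset.sum_filter_add_sum_filter_not Finset.univ
          (fun ψ : IrrCharacter G => ψ ≠ one ∧ ψ ≠ M ∧ ψ ≠ σ M), ← hR, add_comm]
        congr 1
        have honeR : one ∈ Finset.univ.filter
            (fun ψ : IrrCharacter G => ¬ (ψ ≠ one ∧ ψ ≠ M ∧ ψ ≠ σ M)) :=
          Finset.mem_filter.2 ⟨Finset.mem_univ _, fun h => h.1 rfl⟩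
        rw [Finset.sum_eq_single_of_mem one honeR]
        · show (m one : ℂ) * (1 : ℂ) = 1
          rw [hmone]; simp
        · intro ψ hψ hne
          have hv : (ψ : G → ℂ) g = 0 := by
            have h := (Finset.mem_filter.1 hψ).2
            push_neg at h
            by_cases h2 : ψ = M
            · rw [h2]; exact hμ0
            · rw [h hne h2, hσval, conjFun]
              show conj (μ g) = 0
              rw [hμ0, map_zero]
          simp [hF, hv]
      have hzero : (1 : ℂ) + 2 * ∑ ψ ∈ R0, F ψ = 0 := by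
        rw [← hhalf, ← hsplit, hF]
        simpa using hγ0
      have hint : IsIntegral ℤ (-∑ ψ ∈ R0, F ψ) := (IsIntegral.sum _ fun ψ _ =>
        IsIntegral.mul (isIntegral_algebraMap (x := m ψ))
          (Char.IsChar.isIntegral (Char.IsIrr.isCharacter ψ.2) g)).neg
      have hhalf' : ((1 : ℕ) : ℂ) / ((2 : ℕ) : ℂ) = -∑ ψ ∈ R0, F ψ := by
        push_cast; linear_combination (1 / 2 : ℂ) * hzero
      exact absurd (Nat.dvd_one.1 (Char.nat_dvd_of_isIntegral two_ne_zero (hhalf' ▸ hint)))
        (by norm_num)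
    have hgal : ∀ i, i ≠ j → i ∉ C →
        ((Bof (H i)).card : ℝ) ≤ ∑ g ∈ Bof (H i), Complex.normSq (μ g) := by
      intro i hij hiC
      have hνc := Char.isCharacter_mul (Char.IsIrr.isCharacter hμ)
        (Char.isCharacter_conj (Char.IsIrr.isCharacter hμ))
      have h := Char.card_le_sum_of_galois_closed hνc (Bof (H i)) (fun g hg k hk => by
        obtain ⟨x, hx, hg1⟩ := mem_Bof.1 hg
        refine mem_Bof.2 ⟨x, by rw [← conj_pow]; exact (H i).pow_mem hx k, fun e => hg1 ?_⟩
        exact (Nat.Coprime.pow_left_bijective hk.symm).1 (e.trans (one_pow k).symm))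
        (fun g hg => by
          have hv : (μ * fun g => conj (μ g)) g = ((Complex.normSq (μ g) : ℝ) : ℂ) := by
            simp [Complex.mul_conj]
          rw [hv, Complex.ofReal_im, Complex.ofReal_re]
          exact ⟨rfl, Complex.normSq_pos.2 (hnz i hij hiC g hg)⟩)
      refine h.trans (le_of_eq (Finset.sum_congr rfl fun g _ => ?_))
      simp [Complex.mul_conj]
    have hunion : (Finset.univ : Finset ι).biUnion (fun i => Bof (H i)) =
        Finset.univ.erase (1 : G) := by
      ext g
      simp only [Finset.mem_biUnion, Finset.mem_univ, true_and, Finset.mem_erase, and_true]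
      exact ⟨fun ⟨i, hi⟩ => (mem_Bof.1 hi).choose_spec.2, fun hg =>
        let ⟨i, x, hx⟩ := hcover g hg; ⟨i, mem_Bof.2 ⟨x, hx, hg⟩⟩⟩
    have hpd : (↑(Finset.univ : Finset ι) : Set ι).PairwiseDisjoint (fun i => Bof (H i)) :=
      fun i _ i' _ h => Finset.disjoint_left.2 fun g => Bof_disjoint hcop h
    have hcard : (Nat.card G : ℝ) - 1 = ∑ i, ((Bof (H i)).card : ℝ) := by
      rw [← Nat.cast_sum, ← Finset.card_biUnion hpd, hunion,
        Finset.card_erase_of_mem (Finset.mem_univ _), Finset.card_univ, ← Nat.card_eq_fintype_card,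
        Nat.cast_sub Nat.card_pos, Nat.cast_one]
    have hnorm' : Complex.normSq (μ 1) + ∑ i, ∑ g ∈ Bof (H i), Complex.normSq (μ g) =
        (Nat.card G : ℝ) := by
      rw [← Finset.sum_biUnion hpd, hunion]
      rw [Finset.add_sum_erase Finset.univ (fun g => Complex.normSq (μ g)) (Finset.mem_univ _)]
      have hs := Char.classInner_irr_self hμ
      rw [classInner_self_eq, Complex.ofReal_eq_one,
        inv_mul_eq_one₀ (Nat.cast_ne_zero.2 Nat.card_pos.ne')] at hs
      exact hs.symm
    have h1 : (1 : ℝ) ≤ Complex.normSq (μ 1) := by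
      obtain ⟨d, hd0, hd⟩ := Char.IsIrr.degree hμ
      rw [hd, Complex.normSq_natCast]
      have : (1 : ℝ) ≤ d := by exact_mod_cast hd0
      nlinarith
    have hjC : j ∉ C := fun h => (Finset.mem_filter.1 h).2.1 rfl
    have hsub : insert j C ⊆ (Finset.univ : Finset ι) := Finset.subset_univ _
    rw [← Finset.sum_sdiff hsub, Finset.sum_insert hjC] at hnorm' hcard
    have hU : ∑ i ∈ Finset.univ \ insert j C, ((Bof (H i)).card : ℝ) ≤
        ∑ i ∈ Finset.univ \ insert j C, ∑ g ∈ Bof (H i), Complex.normSq (μ g) :=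
      Finset.sum_le_sum fun i hi => by
        simp only [Finset.mem_sdiff, Finset.mem_insert, not_or] at hi
        exact hgal i hi.2.1 hi.2.2
    have hC0 : 0 ≤ ∑ i ∈ C, ∑ g ∈ Bof (H i), Complex.normSq (μ g) :=
      Finset.sum_nonneg fun i _ => Finset.sum_nonneg fun g _ => Complex.normSq_nonneg _
    linarith

/-- The final contradiction. -/
theorem false_of_families (hodd : Odd (Nat.card G)) (hι : 2 ≤ Fintype.card ι)
    (hG : ∀ i, Good (H i))
    (hcop : ∀ i j, i ≠ j → Nat.Coprime (Nat.card (H i)) (Nat.card (H j)))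
    (hcover : ∀ g : G, g ≠ 1 → ∃ i, ∃ x : G, x * g * x⁻¹ ∈ H i) : False := by
  have hfinhom : ∀ i, Finite (Nof (H i) →* ℂˣ) := fun i => FrobKernel.finite_hom
  letI : ∀ i, Fintype (Nof (H i) →* ℂˣ) := fun i => Fintype.ofFinite _
  have : Nonempty ι := Fintype.card_pos_iff.1 (by omega)
  set e : ι → ℕ := fun i => (Nof (H i)).index with he
  set n : ι → ℕ := fun i => (FrobKernel.linFamily (Nof (H i))).card with hn
  have hn2 : ∀ i, 2 ≤ n i := by
    intro i
    have hC := cent_le (hG i)
    obtain ⟨f, hf⟩ := FrobKernel.exists_nontrivial_hom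
      (FrobKernel.isNilpotent hC (Nof_ne_top (hG i))) (Nof_ne_bot (hG i))
    have hmem : indFun (Nof (H i)) (FrobKernel.linFun f) ∈ FrobKernel.linFamily (Nof (H i)) :=
      FrobKernel.mem_linFamily.2 ⟨f, hf, rfl⟩
    exact Finset.one_lt_card.2 ⟨_, hmem, _, FrobKernel.linFamily_conj hmem,
      (FrobKernel.linFamily_conj_ne hC (hodd.of_dvd_nat (Subgroup.card_subgroup_dvd_card _))
        (Nof_ne_top (hG i)) hmem).symm⟩
  obtain ⟨j₀, -, hj₀⟩ := Finset.exists_min_image (Finset.univ : Finset ι) e Finset.univ_nonempty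
  obtain ⟨j, hjmin, hjn⟩ : ∃ j, (∀ i, e j ≤ e i) ∧
      (n j = 2 → ∀ i, e i = e j → n i = 2) := by
    by_cases h : ∃ i, e i = e j₀ ∧ n i ≠ 2
    · obtain ⟨i, hi, hi2⟩ := h
      exact ⟨i, fun k => hi ▸ hj₀ k (Finset.mem_univ _), fun h2 => absurd h2 hi2⟩
    · push_neg at h
      exact ⟨j₀, fun k => hj₀ k (Finset.mem_univ _), fun _ i hi => h i hi⟩
  obtain ⟨hej, hejodd⟩ := index_ge_three (hG j) hodd
  have hgt : n j = 2 → ∀ i, i ≠ j → e j + 2 ≤ e i := by
    intro h2 i hij
    rcases (hjmin i).lt_or_eq with hlt | heq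
    · obtain ⟨a, ha⟩ := hejodd
      obtain ⟨b, hb⟩ := (index_ge_three (hG i) hodd).2
      simp only [he] at hlt ⊢
      omega
    · exfalso
      have hdvd : ∀ k, n k = 2 → 2 * e k + 1 ∣ Nat.card (H k) := by
        intro k hk
        have h1 := FrobKernel.card_linFamily_mul (cent_le (hG k))
        have h2 := FrobKernel.card_hom_mul (N := Nof (H k))
        rw [card_Nof] at h2
        rw [← h2, ← h1]
        simp only [hn] at hk
        rw [hk]
        exact dvd_mul_right _ _
      have h1 := hdvd j h2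
      have h3 := hdvd i (hjn h2 i heq.symm)
      rw [← heq] at h3
      have := Nat.dvd_one.1 (hcop i j hij ▸ Nat.dvd_gcd h3 h1)
      simp only [he] at this
      omega
  have hG0 : (0 : ℝ) < Nat.card G := Nat.cast_pos.2 Nat.card_pos
  have hejR : (3 : ℝ) ≤ e j := by exact_mod_cast hej
  have hBj := card_Bof_lt (hG j)
  rcases (hn2 j).lt_or_eq with hlt | heq
  · obtain ⟨χ, hχ, hlow⟩ := lower_bound_three (hG j) hodd hlt
    obtain ⟨μ, hμ, hμe⟩ := exists_mu (hG j) (FrobKernel.linFamily_irr (cent_le (hG j)) hχ)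
      (fun x hx => FrobKernel.linFamily_off hχ hx)
    obtain ⟨C, -, hCc, hup⟩ := main_bound hodd hG hcop hcover j hχ hμ hμe
    have hlo := hlow μ hμ hμe
    have hCle : ∑ i ∈ C, ((Bof (H i)).card : ℝ) ≤ C.card * ((Nat.card G : ℝ) / e j) := by
      rw [← nsmul_eq_mul]
      refine Finset.sum_le_card_nsmul _ _ _ fun i _ => (card_Bof_lt (hG i)).le.trans ?_
      exact div_le_div_of_nonneg_left hG0.le (by linarith) (Nat.cast_le.2 (hjmin i))
    have hCr : (2 : ℝ) * C.card + 1 ≤ e j := by exact_mod_cast hCc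
    have hx : 0 < (Nat.card G : ℝ) / e j := div_pos hG0 (by linarith)
    have hmul : (Nat.card G : ℝ) / e j * e j = Nat.card G := div_mul_cancel₀ _ (by linarith)
    simp only [he] at hBj hCle hCr hx hmul hejR
    nlinarith
  · obtain ⟨χ, hχ⟩ : (FrobKernel.linFamily (Nof (H j))).Nonempty :=
      Finset.card_pos.1 (by simp only [hn] at heq; omega)
    obtain ⟨μ, hμ, hμe⟩ := exists_mu (hG j) (FrobKernel.linFamily_irr (cent_le (hG j)) hχ)
      (fun x hx => FrobKernel.linFamily_off hχ hx)
    have hlo := lower_bound_two (hG j) hodd heq.symm hχ hμ hμe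
    obtain ⟨C, hjC, hCc, hup⟩ := main_bound hodd hG hcop hcover j hχ hμ hμe
    have hCle : ∑ i ∈ C, ((Bof (H i)).card : ℝ) ≤
        C.card * ((Nat.card G : ℝ) / ((e j : ℝ) + 2)) := by
      rw [← nsmul_eq_mul]
      refine Finset.sum_le_card_nsmul _ _ _ fun i hi => (card_Bof_lt (hG i)).le.trans ?_
      refine div_le_div_of_nonneg_left hG0.le (by linarith) ?_
      exact_mod_cast hgt heq.symm i fun h => hjC (h ▸ hi)
    have hCr : (2 : ℝ) * C.card + 1 ≤ e j := by exact_mod_cast hCc
    simp only [he] at hBj hCle hCr hejR hlo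
    set x : ℝ := ((Nof (H j)).index : ℝ)
    set g : ℝ := (Nat.card G : ℝ)
    have h1 : (0 : ℝ) < 4 * x + 2 := by linarith
    have h2 : (C.card : ℝ) * (g / (x + 2)) ≤ ((x - 1) / 2) * (g / (x + 2)) :=
      mul_le_mul_of_nonneg_right (by linarith) (div_nonneg hG0.le (by linarith))
    have h3 : (1 / x + (x - 1) / (2 * (x + 2))) ≤ 1 / 2 + 1 / (4 * x + 2) := by
      rw [div_add_div _ _ (by linarith : x ≠ 0) (by linarith : 2 * (x + 2) ≠ 0),
        div_add_div _ _ (two_ne_zero : (2 : ℝ) ≠ 0) h1.ne',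
        div_le_div_iff₀ (by positivity) (by positivity)]
      nlinarith [mul_nonneg (sub_nonneg.2 hejR) (sub_nonneg.2 hejR), mul_nonneg (mul_nonneg (sub_nonneg.2 hejR) (sub_nonneg.2 hejR)) (sub_nonneg.2 hejR)]
    have h4 : g / x + (x - 1) / 2 * (g / (x + 2)) =
        (1 / x + (x - 1) / (2 * (x + 2))) * g := by
      have : x ≠ 0 := by linarith
      have : x + 2 ≠ 0 := by linarith
      field_simp
    have h5 := mul_le_mul_of_nonneg_right h3 hG0.le
    linarith

end Cfsg.Agent.Coherence.FeitFinal
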