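import Cfsg.Agent.Coherence.Criteria

/-!
# Lemmas on coherence systems
-/

namespace Cfsg.Agent.Coherence

open scoped ComplexConjugate
open Cfsg.Agent.Char (classInner_add_left classInner_add_right classInner_sub_left
  classInner_sub_right classInner_neg_left classInner_neg_right classInner_smul_left
  classInner_smul_right classInner_zero_left classInner_zero_right classInner_sum_left
  classInner_sum_right classInner_conj_symm classInner_self_eq classInner_self_eq_zero)

universe u v w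

variable {L : Type u} [Group L] [Fintype L] {G : Type v} [Group G] [Fintype G]
  {S : Set (L → ℂ)} {τ : (L → ℂ) → (G → ℂ)} {R : (L → ℂ) → Finset (G → ℂ)}

theorem conjFun_ne_zero_of {χ : L → ℂ} (h : conjFun χ ≠ χ) : χ ≠ 0 := fun e => by
  subst e; exact h (funext fun x => by simp [conjFun])

theorem System.ne_zero (hS : IsCoherenceSystem S τ R) {χ : L → ℂ} (hχ : χ ∈ S) : χ ≠ 0 :=
  conjFun_ne_zero_of (hS.conj_ne χ hχ)

theorem System.finite (hS : IsCoherenceSystem S τ R) : S.Finite :=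
  orth_set_finite hS.orthogonal fun _ h => System.ne_zero hS h

theorem System.diff_mem (hS : IsCoherenceSystem S τ R) {χ : L → ℂ} (hχ : χ ∈ S) :
    χ - conjFun χ ∈ zspanOn S {1}ᶜ :=
  sub_conjFun_mem (hS.isCharacter χ hχ) hχ (hS.conj_mem χ hχ)

theorem System.diff_inner (hS : IsCoherenceSystem S τ R) {χ : L → ℂ} (hχ : χ ∈ S) {ψ : L → ℂ}
    (h1 : classInner χ ψ = 0) (h2 : classInner (conjFun χ) ψ = 0) :
    classInner (χ - ψ) (χ - conjFun χ) = classInner χ χ := by
  have h3 := hS.orthogonal χ hχ _ (hS.conj_mem χ hχ) (hS.conj_ne χ hχ).symm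
  simp [classInner_sub_left, classInner_sub_right, h3, inner_eq_zero_comm h1,
    inner_eq_zero_comm h2]

theorem System.R_ne_zero (hS : IsCoherenceSystem S τ R) {χ : L → ℂ} (hχ : χ ∈ S) {α : G → ℂ}
    (hα : α ∈ R χ) : α ≠ 0 := by
  intro e
  have := hS.orthonormal χ hχ α hα α hα
  rw [if_pos rfl, e, classInner_zero_left] at this
  exact zero_ne_one this

theorem System.R_self (hS : IsCoherenceSystem S τ R) {χ : L → ℂ} (hχ : χ ∈ S) {α : G → ℂ}
    (hα : α ∈ R χ) : classInner α α = 1 := by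
  rw [hS.orthonormal χ hχ α hα α hα, if_pos rfl]

theorem System.R_orth (hS : IsCoherenceSystem S τ R) {χ : L → ℂ} (hχ : χ ∈ S) {α β : G → ℂ}
    (hα : α ∈ R χ) (hβ : β ∈ R χ) (h : α ≠ β) : classInner α β = 0 := by
  rw [hS.orthonormal χ hχ α hα β hβ, if_neg h]

/-- Integer coefficients on `R χ` of a generalized character pairing to `⟨χ, χ⟩` with
`τ (χ - conj χ)`; they sum to `⟨χ, χ⟩`. -/
theorem System.coeff (hS : IsCoherenceSystem S τ R) {χ : L → ℂ} (hχ : χ ∈ S) {X : G → ℂ}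
    (hX : IsGeneralizedCharacter G X)
    (hinner : classInner X (τ (χ - conjFun χ)) = classInner χ χ) :
    ∃ c : (G → ℂ) → ℤ, (∀ α ∈ R χ, classInner X α = c α) ∧
      classInner χ χ = ((∑ α ∈ R χ, c α : ℤ) : ℂ) ∧
      (classInner χ χ).re ≤ ∑ α ∈ R χ, ‖classInner X α‖ ^ 2 ∧
      (∑ α ∈ R χ, ‖classInner X α‖ ^ 2 = (classInner χ χ).re →
        ∀ α ∈ R χ, c α = 0 ∨ c α = 1) := by
  classical
  have hk : ∀ α ∈ R χ, ∃ k : ℤ, classInner X α = k := fun α hα =>
    Char.classInner_generalized_int hX (hS.virtual χ hχ α hα)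
  choose! c hc using hk
  have hsum : classInner χ χ = ((∑ α ∈ R χ, c α : ℤ) : ℂ) := by
    rw [← hinner, hS.sum_eq χ hχ, classInner_sum_right, Int.cast_sum]
    exact Finset.sum_congr rfl hc
  have hsq : ∑ α ∈ R χ, ‖classInner X α‖ ^ 2 = ((∑ α ∈ R χ, c α ^ 2 : ℤ) : ℝ) := by
    rw [Int.cast_sum]
    exact Finset.sum_congr rfl fun α hα => by rw [hc α hα, norm_intCast_sq, Int.cast_pow]
  have hre : (classInner χ χ).re = ((∑ α ∈ R χ, c α : ℤ) : ℝ) := by
    rw [hsum, Complex.intCast_re]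
  refine ⟨c, hc, hsum, ?_, fun he α hα => ?_⟩
  · rw [hsq, hre]; exact_mod_cast Finset.sum_le_sum fun α _ => int_le_sq (c α)
  · rw [hsq, hre] at he
    exact int_sq_eq_self (((Finset.sum_eq_sum_iff_of_le fun β _ => int_le_sq (c β)).1
      (by exact_mod_cast he.symm) α hα).symm)

/-- Bessel's inequality for the union of `R χ` and another orthogonal family orthogonal to it. -/
theorem System.bessel_R (hS : IsCoherenceSystem S τ R) {χ : L → ℂ} (hχ : χ ∈ S) {ι : Type w}
    (s : Finset ι) (g : ι → G → ℂ) (hne : ∀ i ∈ s, g i ≠ 0)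
    (horth : ∀ i ∈ s, ∀ j ∈ s, i ≠ j → classInner (g i) (g j) = 0)
    (hcross : ∀ i ∈ s, ∀ α ∈ R χ, classInner (g i) α = 0) (β : G → ℂ) :
    ∑ α ∈ R χ, ‖classInner β α‖ ^ 2 +
      ∑ i ∈ s, ‖classInner β (g i)‖ ^ 2 / (classInner (g i) (g i)).re ≤
        (classInner β β).re := by
  have h := (bessel ((R χ).disjSum s) (Sum.elim id g) ?_ ?_ β).1
  · rw [Finset.sum_disjSum] at h
    refine le_trans (le_of_eq ?_) h
    congr 1
    exact Finset.sum_congr rfl fun α hα => by simp [System.R_self hS hχ hα]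
  · rintro (α | i) h
    · simpa using System.R_ne_zero hS hχ (Finset.inl_mem_disjSum.1 h)
    · simpa using hne i (Finset.inr_mem_disjSum.1 h)
  · rintro (α | i) h (β' | j) h' hn
    · simpa using System.R_orth hS hχ (Finset.inl_mem_disjSum.1 h) (Finset.inl_mem_disjSum.1 h')
        fun e => hn (by rw [e])
    · simpa using inner_eq_zero_comm
        (hcross j (Finset.inr_mem_disjSum.1 h') α (Finset.inl_mem_disjSum.1 h))
    · simpa using hcross i (Finset.inr_mem_disjSum.1 h) β' (Finset.inl_mem_disjSum.1 h')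
    · simpa using horth i (Finset.inr_mem_disjSum.1 h) j (Finset.inr_mem_disjSum.1 h')
        fun e => hn (by rw [e])

/-- If an isometry on a conjugation-closed subfamily agrees with `τ`, the image of each member
lies in the span of its `R`, so it is orthogonal to the other `R`. -/
theorem System.image_orth_R (hS : IsCoherenceSystem S τ R) {T : Set (L → ℂ)} (hT : T ⊆ S)
    {τ₁ : (L → ℂ) → (G → ℂ)} (hτ₁ : IsLinearIsometryOn (zspan T) τ₁)
    (hagree : ∀ α ∈ zspanOn T {1}ᶜ, τ₁ α = τ α) {φ χ : L → ℂ} (hφ : φ ∈ T)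
    (hφc : conjFun φ ∈ T) (hχ : χ ∈ S) (h1 : classInner φ χ = 0)
    (h2 : classInner φ (conjFun χ) = 0) {α : G → ℂ} (hα : α ∈ R χ) :
    classInner (τ₁ φ) α = 0 := by
  have hφS := hT hφ
  have hzφ := mem_zspan_of_mem hφ
  have hzc := mem_zspan_of_mem hφc
  have hd : φ - conjFun φ ∈ zspanOn T {1}ᶜ := sub_conjFun_mem (hS.isCharacter φ hφS) hφ hφc
  have hinner : classInner (τ₁ φ) (τ (φ - conjFun φ)) = classInner φ φ := by
    rw [← hagree _ hd, hτ₁.2.2.1 _ hzφ _ hd.1, classInner_sub_right,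
      hS.orthogonal φ hφS _ (hT hφc) (hS.conj_ne φ hφS).symm, sub_zero]
  obtain ⟨c, hc, hsum, hle, -⟩ := System.coeff hS hφS (hτ₁.2.2.2 _ hzφ) hinner
  have hb := bessel (R φ) id (fun a ha => System.R_ne_zero hS hφS ha)
    (fun a ha b hb hn => System.R_orth hS hφS ha hb hn) (τ₁ φ)
  have hsimp : ∑ a ∈ R φ, ‖classInner (τ₁ φ) (id a)‖ ^ 2 / (classInner (id a) (id a)).re =
      ∑ a ∈ R φ, ‖classInner (τ₁ φ) a‖ ^ 2 :=
    Finset.sum_congr rfl fun a ha => by simp [System.R_self hS hφS ha]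
  rw [hsimp, hτ₁.2.2.1 _ hzφ _ hzφ] at hb
  rw [hb.2 (le_antisymm hb.1 hle), classInner_sum_left]
  exact Finset.sum_eq_zero fun a ha => by
    rw [classInner_smul_left, id_eq, hS.disjoint χ hχ φ hφS h1 h2 a ha α hα, mul_zero]

end Cfsg.Agent.Coherence
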