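import Cfsg.Agent.Coherence.DadeGen
import Cfsg.Agent.Coherence.Basic
import Cfsg.Agent.Coherence.FrobKernel
import Cfsg.Agent.Char.Zero
import Cfsg.Agent.S1514
import Cfsg.Agent.S1517
import Cfsg.Agent.S1518

/-!
# A Frobenius trivial-intersection family in a group of odd order

`H` is a TI subgroup whose normalizer `L` is a Frobenius group with kernel `H`. For the Dade map
`ind` of the trivial hypothesis on `H \ {1}` we show that an irreducible character of `G` which is
not real on the cover of `H` is detected by some `θ - conj θ`, and bound from below the norm of a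
suitable exceptional character on the cover.
-/

namespace Cfsg.Agent.Coherence.FrobFamily

open scoped ComplexConjugate Classical
open Cfsg.Agent.Char (classInner_add_left classInner_add_right classInner_sub_left
  classInner_sub_right classInner_neg_left classInner_neg_right classInner_smul_left
  classInner_smul_right classInner_zero_left classInner_zero_right classInner_sum_left
  classInner_sum_right classInner_conj_symm classInner_self_eq classInner_self_eq_zero)

universe u

variable {G : Type u} [Group G]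

/-- A nontrivial TI subgroup whose normalizer is a Frobenius group with kernel `H`. -/
structure Good (H : Subgroup G) : Prop where
  ne_bot : H ≠ ⊥
  lt : H < Subgroup.normalizer (H : Set G)
  frob : ∀ h ∈ H, h ≠ 1 →
    Subgroup.normalizer (H : Set G) ⊓ Subgroup.centralizer ({h} : Set G) ≤ H
  TI : IsTISubset (H : Set G)

/-- The normalizer. -/
abbrev Lof (H : Subgroup G) : Subgroup G := Subgroup.normalizer (H : Set G)

/-- The nontrivial elements of `H`. -/
def Aof (H : Subgroup G) : Set G := {x | x ∈ H ∧ x ≠ 1}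

/-- `H` inside its normalizer. -/
abbrev Nof (H : Subgroup G) : Subgroup (Lof H) := H.subgroupOf (Lof H)

theorem mem_Nof {H : Subgroup G} {x : Lof H} : x ∈ Nof H ↔ (x : G) ∈ H := Iff.rfl

theorem mem_Aof_iff {H : Subgroup G} {x : Lof H} : (x : G) ∈ Aof H ↔ x ∈ Nof H ∧ x ≠ 1 :=
  and_congr_right' ⟨fun h e => h (congrArg Subtype.val e), fun h e => h (Subtype.ext e)⟩

/-- The cover of `H`: elements conjugate to a nontrivial element of `H`. -/
noncomputable def Bof [Fintype G] (H : Subgroup G) : Finset G :=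
  Finset.univ.filter (· ∈ Dade.support (Aof H) (fun _ => (⊥ : Subgroup G)))

theorem mem_Bof [Fintype G] {H : Subgroup G} {g : G} :
    g ∈ Bof H ↔ ∃ x : G, x * g * x⁻¹ ∈ H ∧ g ≠ 1 := by
  simp only [Bof, Finset.mem_filter, Finset.mem_univ, true_and, Dade.support, Set.mem_setOf_eq,
    Subgroup.mem_bot, Aof]
  constructor
  · rintro ⟨a, ha, u, rfl, x, hx⟩
    rw [mul_one] at hx
    exact ⟨x, hx ▸ ha.1, fun e => ha.2 (by rw [← hx, e]; simp)⟩
  · rintro ⟨x, hx, hg⟩
    exact ⟨x * g * x⁻¹, ⟨hx, fun e => hg (conj_eq_one_iff.1 e)⟩, 1, rfl, x, (mul_one _).symm⟩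

variable {H : Subgroup G}

theorem dadeHyp (hG : Good H) : DadeHypothesis (Aof H) (Lof H) (fun _ => ⊥) := by
  have hN : Subgroup.normalizer (Aof H) = Lof H := by
    ext g
    simp only [Subgroup.mem_set_normalizer_iff]
    refine ⟨fun h x => ?_, fun h x => ?_⟩
    · by_cases hx : x = 1
      · subst hx; simp
      · have := h x
        simp only [Aof, Set.mem_setOf_eq, ne_eq, conj_eq_one_iff, hx, not_false_iff, and_true] at this
        simpa using this
    · simp only [Aof, Set.mem_setOf_eq, ne_eq, conj_eq_one_iff]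
      exact and_congr_left' (h x)
  rw [← hN]
  refine Dade.of_TI (fun h => h.2 rfl)
    (fun g hg x hx hgx => hG.TI g (fun h => hg (by rw [hN]; exact h)) x hx.1 hgx.1) ?_
  exact
    fun a ha => by rw [SetLike.mem_coe, hN]; exact Subgroup.le_normalizer ha.1

instance normal_Nof : (Nof H).Normal := Subgroup.normal_in_normalizer

theorem cent_le (hG : Good H) :
    ∀ n ∈ Nof H, n ≠ 1 → Subgroup.centralizer ({n} : Set (Lof H)) ≤ Nof H := by
  intro n hn hn1 x hx
  rw [Subgroup.mem_centralizer_singleton_iff] at hx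
  exact hG.frob n hn (fun e => hn1 (Subtype.ext e))
    ⟨x.2, Subgroup.mem_centralizer_singleton_iff.2 (congrArg Subtype.val hx)⟩

theorem Nof_ne_top (hG : Good H) : Nof H ≠ ⊤ := by
  rw [ne_eq, Subgroup.subgroupOf_eq_top]
  exact fun h => hG.lt.not_ge h

theorem Nof_ne_bot (hG : Good H) : Nof H ≠ ⊥ := by
  rw [ne_eq, Subgroup.subgroupOf_eq_bot, disjoint_iff, inf_eq_left.2 Subgroup.le_normalizer]
  exact hG.ne_bot

theorem card_Nof : Nat.card (Nof H) = Nat.card H :=
  Nat.card_congr (Subgroup.subgroupOfEquivOfLe Subgroup.le_normalizer).toEquiv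

theorem index_ge_three (hG : Good H) [Finite G] (hodd : Odd (Nat.card G)) :
    3 ≤ (Nof H).index ∧ Odd (Nof H).index := by
  have hd : (Nof H).index ∣ Nat.card G :=
    (Subgroup.index_dvd_card _).trans (Subgroup.card_subgroup_dvd_card _)
  have ho := hodd.of_dvd_nat hd
  have h1 : (Nof H).index ≠ 1 := fun e => Nof_ne_top hG (Subgroup.index_eq_one.1 e)
  refine ⟨?_, ho⟩
  obtain ⟨k, hk⟩ := ho
  omega

section Map

variable [Fintype G]

/-- The Dade map of the trivial hypothesis. -/
noncomputable def ind (H : Subgroup G) (α : Lof H → ℂ) : G → ℂ :=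
  dadeIsometry (Aof H) (Lof H) (fun _ => ⊥) α

theorem ind_sub (H : Subgroup G) (α β : Lof H → ℂ) : ind H (α - β) = ind H α - ind H β := by
  funext g
  simp only [ind, dadeIsometry, Pi.sub_apply]
  split_ifs <;> simp

theorem ind_add (H : Subgroup G) (α β : Lof H → ℂ) : ind H (α + β) = ind H α + ind H β := by
  funext g
  simp only [ind, dadeIsometry, Pi.add_apply]
  split_ifs <;> simp

theorem ind_zsmul (H : Subgroup G) (n : ℤ) (α : Lof H → ℂ) : ind H (n • α) = n • ind H α := by
  funext g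
  simp only [ind, dadeIsometry, Pi.smul_apply]
  split_ifs <;> simp

theorem ind_eq_zero (hG : Good H) (α : Lof H → ℂ) {g : G} (hg : g ∉ Bof H) :
    ind H α g = 0 :=
  Dade.dade_eq_zero (dadeHyp hG) (fun h => hg (Finset.mem_filter.2 ⟨Finset.mem_univ _, h⟩))

theorem one_not_mem_Bof : (1 : G) ∉ Bof H := fun h => by
  obtain ⟨_, -, h1⟩ := mem_Bof.1 h; exact h1 rfl

theorem supp_of_off {α : Lof H → ℂ} (h1 : α 1 = 0) (hoff : ∀ x ∉ Nof H, α x = 0) :
    ∀ x : Lof H, (x : G) ∉ Aof H → α x = 0 := fun x hx => by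
  by_cases hN : x ∈ Nof H
  · have : x = 1 := by_contra fun h => hx (mem_Aof_iff.2 ⟨hN, h⟩)
    rw [this, h1]
  · exact hoff x hN

theorem inner_ind_ind (hG : Good H) {α β : Lof H → ℂ} (hα : IsClassFunction (Lof H) α)
    (hαA : ∀ x : Lof H, (x : G) ∉ Aof H → α x = 0) (hβ : IsClassFunction (Lof H) β) :
    classInner (ind H α) (ind H β) = classInner α β :=
  Dade.inner_dade_dade (dadeHyp hG) α β hα hαA hβ

/-- Reciprocity with the restriction of a class function to `H \ {1}`. -/
theorem inner_ind_restrict (hG : Good H) {α : Lof H → ℂ} (hα : IsClassFunction (Lof H) α)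
    (hαA : ∀ x : Lof H, (x : G) ∉ Aof H → α x = 0) {f : G → ℂ} (hf : IsClassFunction G f)
    {β : Lof H → ℂ} (hβ : ∀ a : Lof H, (a : G) ∈ Aof H → β a = f a) :
    classInner (ind H α) f = classInner α β :=
  Dade.inner_dade (dadeHyp hG) α hα hαA f β hf fun a ha => by
    rw [hβ a ha, finsum_mem_eq_finite_toFinset_sum _ (Set.toFinite _)]
    have : (Set.toFinite (((⊥ : Subgroup G)) : Set G)).toFinset = {(1 : G)} := by ext; simp
    rw [this]; simp

/-- Averaging a real class function over the cover. -/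
theorem sum_Bof (hG : Good H) (F : G → ℝ) (hF : ∀ g k : G, F (k * g * k⁻¹) = F g) :
    (Nat.card (Lof H) : ℝ) * ∑ g ∈ Bof H, F g =
      (Nat.card G : ℝ) *
        ∑ a ∈ Finset.univ.filter (fun a : Lof H => (a : G) ∈ Aof H), F a := by
  have h := Dade.sum_support (dadeHyp hG) (fun g => (F g : ℂ)) (fun g k => by simp [hF g k])
  have hin : ∀ a ∈ Finset.univ.filter (fun a : Lof H => (a : G) ∈ Aof H),
      (Nat.card (⊥ : Subgroup G) : ℂ)⁻¹ *
        ∑ u ∈ Finset.univ.filter (· ∈ (⊥ : Subgroup G)), (F ((a : G) * u) : ℂ) = (F a : ℂ) := by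
    intro a _
    have : Finset.univ.filter (· ∈ (⊥ : Subgroup G)) = {(1 : G)} := by ext; simp
    rw [this]; simp
  rw [Finset.sum_congr rfl hin] at h
  apply Complex.ofReal_injective
  push_cast
  exact h

theorem card_A (hG : Good H) :
    (Finset.univ.filter (fun a : Lof H => (a : G) ∈ Aof H)).card + 1 = Nat.card H := by
  have h2 : Nat.card H = ((Finset.univ : Finset (Nof H)).erase 1).card + 1 := by
    rw [Finset.card_erase_add_one (Finset.mem_univ _), Finset.card_univ, ← Nat.card_eq_fintype_card,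
      card_Nof]
  rw [h2]
  congr 1
  refine Finset.card_bij (fun a ha => ⟨a, (mem_Aof_iff.1 (Finset.mem_filter.1 ha).2).1⟩) ?_ ?_ ?_
  · intro a ha
    refine Finset.mem_erase.2 ⟨fun e => ?_, Finset.mem_univ _⟩
    exact (mem_Aof_iff.1 (Finset.mem_filter.1 ha).2).2 (congrArg Subtype.val e)
  · intro a _ b _ e
    exact (congrArg Subtype.val e : _)
  · intro b hb
    exact ⟨b, Finset.mem_filter.2 ⟨Finset.mem_univ _, mem_Aof_iff.2 ⟨b.2, fun e =>
      (Finset.mem_erase.1 hb).1 (Subtype.ext e)⟩⟩, rfl⟩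

theorem card_Bof (hG : Good H) :
    (Nat.card (Lof H) : ℝ) * (Bof H).card = (Nat.card G : ℝ) * ((Nat.card H : ℝ) - 1) := by
  have h := sum_Bof hG (fun _ => (1 : ℝ)) (fun _ _ => rfl)
  simp only [Finset.sum_const, nsmul_one] at h
  rw [h]
  congr 1
  rw [← card_A hG]
  push_cast
  ring

theorem card_Bof_lt (hG : Good H) :
    ((Bof H).card : ℝ) < (Nat.card G : ℝ) / (Nof H).index := by
  have h := card_Bof hG
  have hL : Nat.card (Lof H) = Nat.card H * (Nof H).index := by
    rw [← card_Nof (H := H), Subgroup.card_mul_index]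
  rw [hL, Nat.cast_mul] at h
  have he : (0 : ℝ) < (Nof H).index :=
    Nat.cast_pos.2 (Nat.pos_of_ne_zero Subgroup.index_ne_zero_of_finite)
  have hh : (0 : ℝ) < Nat.card H := Nat.cast_pos.2 Nat.card_pos
  have hg : (0 : ℝ) < Nat.card G := Nat.cast_pos.2 Nat.card_pos
  rw [lt_div_iff₀ he]
  nlinarith

/-- An irreducible character not real on the cover is detected by some `θ - conj θ`. -/
theorem nonreal_detect (hG : Good H) {ψ : G → ℂ} (hψ : IsIrrCharacter G ψ)
    (hn : ∃ g ∈ Bof H, ψ g ≠ conj (ψ g)) :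
    ∃ θ : Lof H → ℂ, IsIrrCharacter (Lof H) θ ∧ (∀ x ∉ Nof H, θ x = 0) ∧
      classInner (ind H (θ - conjFun θ)) (ψ - conjFun ψ) ≠ 0 := by
  by_contra hno
  push_neg at hno
  set f := ψ - conjFun ψ with hf
  have hfc : IsClassFunction G f := fun g k => by
    simp [hf, conjFun, Char.isClassFunction_of_isIrr hψ g k]
  set β : Lof H → ℂ := fun a => if (a : G) ∈ Aof H then f a else 0 with hβ
  have hψinv := fun g => Char.IsChar.inv_eq_conj (Char.IsIrr.isCharacter hψ) g
  have hfinv : ∀ g : G, f g⁻¹ = -f g := fun g => by simp [hf, conjFun, hψinv g]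
  have hAinv : ∀ a : Lof H, (((a⁻¹ : Lof H) : G) ∈ Aof H) ↔ (a : G) ∈ Aof H := fun a => by
    simp [Aof]
  have hβinv : ∀ a : Lof H, β a⁻¹ = -β a := fun a => by
    simp only [hβ, hAinv]
    split_ifs
    · rw [Subgroup.coe_inv]; exact hfinv _
    · simp
  have hβc : IsClassFunction (Lof H) β := by
    intro a l
    have hmem : (((l * a * l⁻¹ : Lof H) : G) ∈ Aof H) ↔ (a : G) ∈ Aof H := by
      simp only [mem_Aof_iff, ne_eq, conj_eq_one_iff]
      exact and_congr_left' ⟨fun h => by
        simpa [mul_assoc] using normal_Nof.conj_mem _ h l⁻¹,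
        fun h => normal_Nof.conj_mem _ h l⟩
    simp only [hβ, hmem]
    split_ifs
    · simp only [Subgroup.coe_mul, Subgroup.coe_inv]; exact hfc _ _
    · rfl
  have hzero : ∀ θ : IrrCharacter (Lof H), classInner β (θ : Lof H → ℂ) = 0 := by
    intro θ
    have hθinv := fun a => Char.IsChar.inv_eq_conj (Char.IsIrr.isCharacter θ.2) a
    have hneg : classInner β (conjFun (θ : Lof H → ℂ)) = -classInner β (θ : Lof H → ℂ) := by
      simp only [classInner]
      rw [← mul_neg, ← Finset.sum_neg_distrib]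
      congr 1
      refine Fintype.sum_equiv (Equiv.inv _) _ _ fun a => ?_
      simp only [Equiv.inv_apply, hβinv, hθinv, conjFun]
      ring
    rcases FrobKernel.irr_cases (cent_le hG) θ.2 with hconst | hoff
    · have hsum : ∑ a : Lof H, β a = 0 := by
        have h1 : ∑ a : Lof H, β a = -∑ a : Lof H, β a := by
          rw [← Finset.sum_neg_distrib]
          exact Fintype.sum_equiv (Equiv.inv _) _ _ fun a => by
            simp only [Equiv.inv_apply, hβinv, neg_neg]
        linear_combination h1 / 2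
      simp only [classInner]
      rw [Finset.sum_congr rfl (g := fun a => β a * conj ((θ : Lof H → ℂ) 1)) (fun a _ => ?_),
        ← Finset.sum_mul, hsum, zero_mul, mul_zero]
      by_cases ha : (a : G) ∈ Aof H
      · rw [hconst a (mem_Aof_iff.1 ha).1]
      · simp [hβ, ha]
    · set α := (θ : Lof H → ℂ) - conjFun (θ : Lof H → ℂ) with hα
      have hαc : IsClassFunction (Lof H) α := fun a l => by
        simp [hα, conjFun, Char.isClassFunction_of_isIrr θ.2 a l]
      have hαA : ∀ a : Lof H, (a : G) ∉ Aof H → α a = 0 := supp_of_off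
        (by simp [hα, isChar_conjFun_one (Char.IsIrr.isCharacter θ.2)])
        (fun x hx => by simp [hα, conjFun, hoff x hx])
      have h := hno θ θ.2 hoff
      rw [inner_ind_restrict hG hαc hαA hfc (β := β) (fun a ha => by simp [hβ, ha])] at h
      have h' : classInner β α = 0 := by rw [← classInner_conj_symm, h, map_zero]
      rw [hα, classInner_sub_right, hneg] at h'
      linear_combination h' / 2
  have hβ0 := Char.classFun_eq_zero hβc hzero
  obtain ⟨g, hg, hne⟩ := hn
  obtain ⟨x, hx, hg1⟩ := mem_Bof.1 hg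
  have hA : x * g * x⁻¹ ∈ Aof H := ⟨hx, fun e => hg1 (conj_eq_one_iff.1 e)⟩
  have h := congrFun hβ0 ⟨x * g * x⁻¹, Subgroup.le_normalizer hx⟩
  simp only [hβ, hA, if_true, Pi.zero_apply] at h
  rw [hfc g x] at h
  exact hne (sub_eq_zero.1 h)

/-- The exceptional character attached to `θ`. -/
theorem exists_mu (hG : Good H) {θ : Lof H → ℂ} (hθ : IsIrrCharacter (Lof H) θ)
    (hoff : ∀ x ∉ Nof H, θ x = 0) :
    ∃ μ : G → ℂ, IsIrrCharacter G μ ∧ ind H (θ - conjFun θ) = μ - conjFun μ :=
  Cfsg.Agent.S1518.result _ _ _ (dadeHyp hG) θ hθ fun x hx hxA => hoff x fun h =>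
    hxA (mem_Aof_iff.2 ⟨h, hx⟩)

theorem ind_coe (hG : Good H) {α : Lof H → ℂ} (hα : IsClassFunction (Lof H) α) {a : Lof H}
    (ha : (a : G) ∈ Aof H) : ind H α (a : G) = α a :=
  Dade.dade_coe (dadeHyp hG) hα ha

theorem sum_normSq_A {θ : Lof H → ℂ} (hoff : ∀ x ∉ Nof H, θ x = 0) :
    ∑ a ∈ Finset.univ.filter (fun a : Lof H => (a : G) ∈ Aof H), Complex.normSq (θ a) =
      (Nat.card (Lof H) : ℝ) * (classInner θ θ).re - Complex.normSq (θ 1) := by
  have hL : (Nat.card (Lof H) : ℝ) ≠ 0 := Nat.cast_ne_zero.2 Nat.card_pos.ne'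
  have hall : ∑ a : Lof H, Complex.normSq (θ a) =
      (Nat.card (Lof H) : ℝ) * (classInner θ θ).re := by
    rw [classInner_self_eq, Complex.ofReal_re, ← mul_assoc, mul_inv_cancel₀ hL, one_mul]
  rw [← hall, ← Finset.add_sum_erase _ _ (Finset.mem_univ (1 : Lof H)), add_sub_cancel_left]
  refine Finset.sum_subset (fun a ha => Finset.mem_erase.2
    ⟨(mem_Aof_iff.1 (Finset.mem_filter.1 ha).2).2, Finset.mem_univ _⟩) fun a ha hna => ?_
  simp only [Finset.mem_filter, Finset.mem_univ, true_and, mem_Aof_iff, not_and, not_not] at hna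
  rw [hoff a (fun h => (Finset.mem_erase.1 ha).1 (hna h)), map_zero]

variable [Fintype (Nof H →* ℂˣ)]

/-- With at least three linear characters up to conjugation, some exceptional character carries
two thirds of its norm on the cover. -/
theorem lower_bound_three (hG : Good H) (hodd : Odd (Nat.card G))
    (hn : 3 ≤ (FrobKernel.linFamily (Nof H)).card) :
    ∃ χ ∈ FrobKernel.linFamily (Nof H), ∀ μ : G → ℂ, IsIrrCharacter G μ →
      ind H (χ - conjFun χ) = μ - conjFun μ →
        (2 / 3 : ℝ) * Nat.card G ≤ ∑ g ∈ Bof H, Complex.normSq (μ g) := by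
  set S := FrobKernel.linFamily (Nof H) with hS
  have hC := cent_le hG
  have hoddL : Odd (Nat.card (Lof H)) := hodd.of_dvd_nat (Subgroup.card_subgroup_dvd_card _)
  have hirr : ∀ χ ∈ S, IsIrrCharacter (Lof H) χ := fun χ h => FrobKernel.linFamily_irr hC h
  have hne : S.Nonempty := Finset.card_pos.1 (by omega)
  have hoffS : ∀ χ ∈ (↑S : Set (Lof H → ℂ)), ∀ x ∉ Nof H, χ x = 0 :=
    fun χ h x hx => FrobKernel.linFamily_off h hx
  have hspan : ∀ α ∈ zspan (↑S : Set (Lof H → ℂ)),
      IsGeneralizedCharacter (Lof H) α ∧ ∀ x ∉ Nof H, α x = 0 := fun α hα =>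
    ⟨isGeneralized_zspan (fun χ h => Char.isGeneralized_of_isCharacter
        (Char.IsIrr.isCharacter (hirr χ h))) hα,
      zspan_induction (P := fun α => ∀ x ∉ Nof H, α x = 0) hα hoffS (fun _ _ => rfl)
        (fun β γ _ _ hb hc x hx => by simp [hb x hx, hc x hx])
        (fun n β _ hb x hx => by simp [hb x hx])⟩
  have hA : ∀ α ∈ zspanOn (↑S : Set (Lof H → ℂ)) {1}ᶜ,
      ∀ x : Lof H, (x : G) ∉ Aof H → α x = 0 := fun α hα =>
    supp_of_off (mem_zspanOn_compl_one.1 hα).2 (hspan α hα.1).2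
  have hiso : IsLinearIsometryOn (zspanOn (↑S : Set (Lof H → ℂ)) {1}ᶜ) (ind H) :=
    ⟨fun α _ β _ => ind_add H α β, fun α _ n => ind_zsmul H n α,
      fun α hα β hβ => inner_ind_ind hG (Char.IsGen.isClassFunction (hspan α hα.1).1) (hA α hα)
        (Char.IsGen.isClassFunction (hspan β hβ.1).1),
      fun α hα => Dade.isGeneralized_dade (dadeHyp hG) (hspan α hα.1).1 (hA α hα)⟩
  obtain ⟨R, hR⟩ := Cfsg.Agent.S1514.result (↑S : Set (Lof H → ℂ))
    (Finset.coe_nonempty.2 hne) hirr
    (fun χ h => ⟨FrobKernel.linFamily_conj h,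
      FrobKernel.linFamily_conj_ne hC hoddL (Nof_ne_top hG) h⟩)
    (ind H) hiso (fun α _ => ind_eq_zero hG α one_not_mem_Bof)
  obtain ⟨-, τ₁, hτ₁, hagree⟩ := Cfsg.Agent.S1517.result (↑S : Set (Lof H → ℂ)) (ind H) R hR
    fun φ hφ ψ hψ => (FrobKernel.linFamily_apply_one hφ).trans
      (FrobKernel.linFamily_apply_one hψ).symm
  set A := Finset.univ.filter (fun a : Lof H => (a : G) ∈ Aof H) with hAdef
  obtain ⟨χ₀, hχ₀⟩ := hne
  set D : Lof H → ℂ := fun a => τ₁ χ₀ (a : G) - χ₀ a with hD
  have hconst : ∀ χ ∈ S, ∀ a ∈ A, τ₁ χ (a : G) = χ a + D a := by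
    intro χ hχ a ha
    have hz : χ - χ₀ ∈ zspanOn (↑S : Set (Lof H → ℂ)) {1}ᶜ := mem_zspanOn_compl_one.2
      ⟨zspan_sub (mem_zspan_of_mem (Finset.mem_coe.2 hχ)) (mem_zspan_of_mem (Finset.mem_coe.2 hχ₀)),
        by simp [FrobKernel.linFamily_apply_one hχ, FrobKernel.linFamily_apply_one hχ₀]⟩
    have h := congrFun (hagree _ hz) (a : G)
    rw [iso_zspan_sub hτ₁ (mem_zspan_of_mem (Finset.mem_coe.2 hχ))
      (mem_zspan_of_mem (Finset.mem_coe.2 hχ₀)),
      ind_coe hG (Char.IsGen.isClassFunction (hspan _ hz.1).1) (Finset.mem_filter.1 ha).2] at h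
    simp only [Pi.sub_apply] at h
    simp only [hD]
    linear_combination h
  set n : ℝ := (S.card : ℝ) with hn'
  have hn0 : (3 : ℝ) ≤ n := by rw [hn']; exact_mod_cast hn
  set σ : Lof H → ℂ := fun a => ∑ χ ∈ S, χ a with hσ
  have hpt : ∀ a ∈ A, ∑ χ ∈ S, Complex.normSq (χ a) - Complex.normSq (σ a) / n ≤
      ∑ χ ∈ S, Complex.normSq (τ₁ χ (a : G)) := by
    intro a ha
    rw [Finset.sum_congr rfl (fun χ hχ => by rw [hconst χ hχ a ha, Complex.normSq_add]) (s₁ := S)
      (f := fun χ => Complex.normSq (τ₁ χ (a : G)))]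
    have h2 : ∑ χ ∈ S, (Complex.normSq (χ a) + Complex.normSq (D a) + 2 * (χ a * conj (D a)).re) =
        ∑ χ ∈ S, Complex.normSq (χ a) + n * Complex.normSq (D a) +
          2 * (σ a * conj (D a)).re := by
      simp only [hσ, Finset.sum_mul, Complex.re_sum, Finset.sum_add_distrib, Finset.sum_const,
        nsmul_eq_mul, hn', Finset.mul_sum]
    rw [h2]
    have h3 : 0 ≤ Complex.normSq (σ a + (n : ℂ) * D a) / n :=
      div_nonneg (Complex.normSq_nonneg _) (by linarith)
    have h4 : Complex.normSq (σ a + (n : ℂ) * D a) / n = Complex.normSq (σ a) / n +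
        n * Complex.normSq (D a) + 2 * (σ a * conj (D a)).re := by
      rw [Complex.normSq_add, map_mul, Complex.normSq_ofReal]
      simp only [map_mul, Complex.conj_ofReal, Complex.mul_re, Complex.mul_im, Complex.ofReal_re,
        Complex.ofReal_im, Complex.conj_re, Complex.conj_im]
      field_simp
      ring
    linarith
  have hσoff : ∀ x ∉ Nof H, σ x = 0 := fun x hx =>
    Finset.sum_eq_zero fun χ hχ => hoffS χ (Finset.mem_coe.2 hχ) x hx
  have hσeq : σ = ∑ χ ∈ S, χ := by funext a; simp [hσ]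
  have hσnorm : (classInner σ σ).re = n := by
    rw [hσeq, classInner_sum_left]
    simp only [classInner_sum_right, Complex.re_sum]
    rw [Finset.sum_congr rfl (g := fun _ => (1 : ℝ)) (fun χ hχ => ?_), Finset.sum_const,
      nsmul_one]
    rw [Finset.sum_eq_single χ (fun φ hφ hne => by
        rw [Char.classInner_irr_ne (hirr χ hχ) (hirr φ hφ) hne.symm, Complex.zero_re])
      (fun h => absurd hχ h), Char.classInner_irr_self (hirr χ hχ), Complex.one_re]
  have hσ1 : σ 1 = (n : ℂ) * (Nof H).index := by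
    simp only [hσ]
    rw [Finset.sum_congr rfl (fun χ hχ => FrobKernel.linFamily_apply_one hχ), Finset.sum_const,
      nsmul_eq_mul, hn', Complex.ofReal_natCast]
  have htot := Finset.sum_le_sum hpt
  rw [Finset.sum_sub_distrib, ← Finset.sum_div, Finset.sum_comm (s := A),
    Finset.sum_comm (s := A) (f := fun a χ => Complex.normSq (τ₁ χ (a : G))),
    sum_normSq_A hσoff, hσnorm, hσ1,
    Finset.sum_congr rfl (fun χ hχ => by
      rw [sum_normSq_A (hoffS χ (Finset.mem_coe.2 hχ)), Char.classInner_irr_self (hirr χ hχ),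
        FrobKernel.linFamily_apply_one hχ]) (s₁ := S)
      (f := fun χ => ∑ a ∈ A, Complex.normSq (χ a)),
    Finset.sum_const, nsmul_eq_mul, map_mul, Complex.normSq_ofReal, Complex.normSq_natCast,
    Complex.one_re, ← hn'] at htot
  obtain ⟨χ, hχ, hmax⟩ : ∃ χ ∈ S, (2 / 3 : ℝ) * Nat.card (Lof H) ≤
      ∑ a ∈ A, Complex.normSq (τ₁ χ (a : G)) := by
    by_contra! hall
    have hlt := Finset.sum_lt_sum_of_nonempty ⟨χ₀, hχ₀⟩ hall
    rw [Finset.sum_const, nsmul_eq_mul, ← hn'] at hlt
    have hL : (0 : ℝ) < Nat.card (Lof H) := Nat.cast_pos.2 Nat.card_pos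
    have he : n * ((Nat.card (Lof H) : ℝ) * 1 - (Nof H).index * (Nof H).index) -
        ((Nat.card (Lof H) : ℝ) * n - n * n * ((Nof H).index * (Nof H).index)) / n =
        (n - 1) * Nat.card (Lof H) := by
      field_simp; ring
    nlinarith
  refine ⟨χ, hχ, fun μ hμ hμe => ?_⟩
  have hzc : χ - conjFun χ ∈ zspanOn (↑S : Set (Lof H → ℂ)) {1}ᶜ :=
    sub_conjFun_mem (Char.IsIrr.isCharacter (hirr χ hχ)) (Finset.mem_coe.2 hχ)
      (Finset.mem_coe.2 (FrobKernel.linFamily_conj hχ))
  have hz1 := mem_zspan_of_mem (Finset.mem_coe.2 hχ)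
  have hz2 := mem_zspan_of_mem (Finset.mem_coe.2 (FrobKernel.linFamily_conj hχ))
  have hpair : classInner (τ₁ χ) (μ - conjFun μ) = 1 := by
    rw [← hμe, ← hagree _ hzc, hτ₁.2.2.1 _ hz1 _ hzc.1, classInner_sub_right,
      Char.classInner_irr_self (hirr χ hχ),
      Char.classInner_irr_ne (hirr χ hχ) (hirr _ (FrobKernel.linFamily_conj hχ))
        (FrobKernel.linFamily_conj_ne hC hoddL (Nof_ne_top hG) hχ).symm, sub_zero]
  have hnormeq : ∀ g, Complex.normSq (τ₁ χ g) = Complex.normSq (μ g) := by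
    obtain ⟨F, hF⟩ := Char.IsGen.eq_pm_irr (hτ₁.2.2.2 _ hz1)
      (by rw [hτ₁.2.2.1 _ hz1 _ hz1, Char.classInner_irr_self (hirr χ hχ)])
    have hFmem : (F : G → ℂ) = μ ∨ (F : G → ℂ) = conjFun μ := by
      by_contra! hno
      have h1 := Char.classInner_irr_ne F.2 hμ hno.1
      have h2 := Char.classInner_irr_ne F.2 (isIrr_conjFun hμ) hno.2
      rcases hF with e | e <;>
        simp [e, classInner_sub_right, classInner_neg_left, h1, h2] at hpair
    intro g
    rcases hF with e | e <;> rcases hFmem with e' | e' <;>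
      simp [e, e', conjFun, Complex.normSq_conj]
  have hB := sum_Bof hG (fun g => Complex.normSq (μ g))
    (fun g k => by rw [Char.isClassFunction_of_isIrr hμ g k])
  rw [← hAdef] at hB
  simp only [hnormeq] at hmax
  have hL : (0 : ℝ) < Nat.card (Lof H) := Nat.cast_pos.2 Nat.card_pos
  refine le_of_mul_le_mul_left ?_ hL
  rw [hB]
  calc (Nat.card (Lof H) : ℝ) * (2 / 3 * Nat.card G)
      = (Nat.card G : ℝ) * (2 / 3 * Nat.card (Lof H)) := by ring
    _ ≤ _ := mul_le_mul_of_nonneg_left hmax (Nat.cast_nonneg _)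

/-- The exceptional pair of a conjugate pair of linear characters. -/
theorem lower_bound_two (hG : Good H) (hodd : Odd (Nat.card G))
    (hn : (FrobKernel.linFamily (Nof H)).card = 2) {χ : Lof H → ℂ}
    (hχ : χ ∈ FrobKernel.linFamily (Nof H)) {μ : G → ℂ} (hμ : IsIrrCharacter G μ)
    (hμe : ind H (χ - conjFun χ) = μ - conjFun μ) :
    ((1 : ℝ) / 2 + 1 / (4 * (Nof H).index + 2)) * Nat.card G ≤
      ∑ g ∈ Bof H, Complex.normSq (μ g) := by
  set S := FrobKernel.linFamily (Nof H) with hS
  have hC := cent_le hG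
  have hoddL : Odd (Nat.card (Lof H)) := hodd.of_dvd_nat (Subgroup.card_subgroup_dvd_card _)
  have hχirr := FrobKernel.linFamily_irr hC hχ
  have hχc := FrobKernel.linFamily_conj hχ
  have hχne := FrobKernel.linFamily_conj_ne hC hoddL (Nof_ne_top hG) hχ
  have hSeq : S = {χ, conjFun χ} := by
    refine (Finset.eq_of_subset_of_card_le ?_ ?_).symm
    · intro y hy
      rcases Finset.mem_insert.1 hy with rfl | hy
      · exact hχ
      · rw [Finset.mem_singleton.1 hy]; exact hχc
    · rw [Finset.card_pair hχne.symm, hn]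
  set a := Nat.card (Nof H →* ℂˣ) with ha
  have ha' : 2 * (Nof H).index + 1 = a := by rw [← hn]; exact FrobKernel.card_linFamily_mul hC
  set K : Nof H → Prop := fun x => ∀ f : Nof H →* ℂˣ, f x = 1 with hK
  have houtval : ∀ x : Nof H, ¬ K x → χ x + conj (χ x) = -1 := by
    intro x hx
    have h := FrobKernel.sum_linFamily hC x
    rw [← hS, hSeq, Finset.sum_pair hχne.symm] at h
    simp only [conjFun] at h
    rw [h, Finset.filter_ne']
    have hzero : ∑ f : Nof H →* ℂˣ, (f x : ℂ) = 0 := by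
      simp only [hK, not_forall] at hx
      obtain ⟨g, hg⟩ := hx
      have hshift : ∑ f : Nof H →* ℂˣ, (f x : ℂ) =
          (g x : ℂ) * ∑ f : Nof H →* ℂˣ, (f x : ℂ) := by
        rw [Finset.mul_sum]
        refine (Equiv.sum_comp (Equiv.mulLeft g) (fun f : Nof H →* ℂˣ => (f x : ℂ))).symm.trans ?_
        simp
      have hne : (g x : ℂ) - 1 ≠ 0 := sub_ne_zero.2 fun e => hg (Units.ext e)
      exact (mul_eq_zero.1 (show ((g x : ℂ) - 1) * ∑ f : Nof H →* ℂˣ, (f x : ℂ) = 0 by
        linear_combination -hshift)).resolve_left hne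
    rw [Finset.sum_erase_eq_sub (Finset.mem_univ _), hzero]
    simp
  set P : G → Prop := fun g => ∃ x : G, ∃ h : x * g * x⁻¹ ∈ H,
    ¬ K ⟨⟨x * g * x⁻¹, Subgroup.le_normalizer h⟩, mem_Nof.2 h⟩ with hP
  have hK1 : K 1 := fun f => map_one f
  have hPB : ∀ g, P g → g ∈ Bof H := by
    rintro g ⟨x, hx, hnK⟩
    refine mem_Bof.2 ⟨x, hx, fun e => hnK ?_⟩
    have : (⟨⟨x * g * x⁻¹, Subgroup.le_normalizer hx⟩, mem_Nof.2 hx⟩ : Nof H) = 1 := by
      apply Subtype.ext; apply Subtype.ext; simp [e]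
    rw [this]; exact hK1
  have hPconj : ∀ g k : G, P (k * g * k⁻¹) ↔ P g := by
    intro g k
    constructor
    · rintro ⟨x, hx, hnK⟩
      refine ⟨x * k, by simpa [mul_assoc] using hx, ?_⟩
      convert hnK using 4
      group
    · rintro ⟨x, hx, hnK⟩
      refine ⟨x * k⁻¹, by simpa [mul_assoc] using hx, ?_⟩
      convert hnK using 4
      group
  have hPout : ∀ a : Lof H, (a : G) ∈ Aof H → P (a : G) →
      ∃ h : a ∈ Nof H, ¬ K ⟨a, h⟩ := by
    rintro a haA ⟨x, hx, hnK⟩
    have haN := (mem_Aof_iff.1 haA).1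
    refine ⟨haN, fun hKa => hnK fun f => ?_⟩
    have hxA : x * (a : G) * x⁻¹ ∈ Aof H :=
      ⟨hx, fun e => haA.2 (conj_eq_one_iff.1 e)⟩
    obtain ⟨l, hl, he⟩ := (dadeHyp hG).fusion a haA x hxA
    have hxa : (⟨⟨x * a * x⁻¹, Subgroup.le_normalizer hx⟩, mem_Nof.2 hx⟩ : Nof H) =
        (MulAut.conjNormal (⟨l, hl⟩ : Lof H) : MulAut (Nof H)) ⟨a, haN⟩ := by
      apply Subtype.ext; apply Subtype.ext
      simp [he]
    rw [hxa]
    exact hKa (f.comp (MulAut.conjNormal (⟨l, hl⟩ : Lof H) : MulAut (Nof H)).toMonoidHom)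
  set A := Finset.univ.filter (fun a : Lof H => (a : G) ∈ Aof H) with hAdef
  set out := A.filter (fun a : Lof H => P (a : G)) with hout
  have houtcard : out.card + Nat.card {x : Nof H // K x} = Nat.card H := by
    rw [← card_Nof (H := H), Nat.card_eq_fintype_card (α := Nof H),
      Nat.card_eq_fintype_card (α := {x : Nof H // K x}), Fintype.card_subtype, ← Finset.card_univ,
      ← Finset.card_filter_add_card_filter_not (s := (Finset.univ : Finset (Nof H))) (fun x => ¬ K x)]
    congr 1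
    · refine Finset.card_bij (fun a ha => ⟨a, (mem_Aof_iff.1
        (Finset.mem_filter.1 (Finset.mem_filter.1 ha).1).2).1⟩) ?_ (fun _ _ _ _ e =>
        (congrArg Subtype.val e : _)) ?_
      · intro a ha
        obtain ⟨haA, haP⟩ := Finset.mem_filter.1 ha
        obtain ⟨h, hn⟩ := hPout a (Finset.mem_filter.1 haA).2 haP
        exact Finset.mem_filter.2 ⟨Finset.mem_univ _, hn⟩
      · intro b hb
        have hnK := (Finset.mem_filter.1 hb).2
        refine ⟨b, Finset.mem_filter.2 ⟨Finset.mem_filter.2 ⟨Finset.mem_univ _,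
          mem_Aof_iff.2 ⟨b.2, fun e => hnK ?_⟩⟩, 1, by simpa using mem_Nof.1 b.2, ?_⟩, rfl⟩
        · rw [show b = 1 from Subtype.ext e]; exact hK1
        · convert hnK using 2
          apply Subtype.ext; apply Subtype.ext; simp
    · congr 1; ext x; simp
  -- the real part on `out`
  have hdiff : ∀ a ∈ A, μ (a : G) - conj (μ (a : G)) = χ a - conj (χ a) := by
    intro a ha
    have h := congrFun hμe (a : G)
    rw [ind_coe hG (fun x y => by
      simp [conjFun, Char.isClassFunction_of_isIrr hχirr x y]) (Finset.mem_filter.1 ha).2] at h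
    exact h.symm
  have hint : ∀ g, P g → (μ g + conj (μ g)) ≠ 0 := by
    rintro g ⟨x, hx, hnK⟩ hzero
    set a : Lof H := ⟨x * g * x⁻¹, Subgroup.le_normalizer hx⟩ with ha_def
    have hv : μ g = μ (a : G) := (Char.isClassFunction_of_isIrr hμ g x).symm
    have hne1 : g ≠ 1 := fun e => hnK (by
      have : (⟨a, mem_Nof.2 hx⟩ : Nof H) = 1 := by
        apply Subtype.ext; apply Subtype.ext; simp [ha_def, e]
      rw [this]; exact hK1)
    have haA : a ∈ A := Finset.mem_filter.2
      ⟨Finset.mem_univ _, hx, fun e => hne1 (conj_eq_one_iff.1 e)⟩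
    have h1 := hdiff a haA
    have h2 := houtval ⟨a, mem_Nof.2 hx⟩ hnK
    rw [hv] at hzero
    have hD : IsIntegral ℤ (μ (a : G) - χ a) :=
      (Char.IsChar.isIntegral (Char.IsIrr.isCharacter hμ) _).sub
        (Char.IsChar.isIntegral (Char.IsIrr.isCharacter hχirr) _)
    have hhalf : ((1 : ℕ) : ℂ) / ((2 : ℕ) : ℂ) = μ (a : G) - χ a := by
      push_cast
      linear_combination -(1 : ℂ) / 2 * h1 - (1 : ℂ) / 2 * hzero + (1 : ℂ) / 2 * h2
    exact absurd (Nat.dvd_one.1 (Char.nat_dvd_of_isIntegral two_ne_zero (hhalf ▸ hD))) (by norm_num)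
  set T := Finset.univ.filter P with hT
  have hTclosed : ∀ g ∈ T, ∀ k : ℕ, k.Coprime (Nat.card G) → g ^ k ∈ T := by
    intro g hg k hk
    obtain ⟨x, hx, hnK⟩ := (Finset.mem_filter.1 hg).2
    refine Finset.mem_filter.2 ⟨Finset.mem_univ _, x, by rw [← conj_pow]; exact H.pow_mem hx k,
      fun hKk => hnK fun f => ?_⟩
    set y : Nof H := ⟨⟨x * g * x⁻¹, Subgroup.le_normalizer hx⟩, mem_Nof.2 hx⟩ with hy
    have hyk : f y ^ k = 1 := by
      rw [← map_pow, ← hKk f]
      congr 1
      apply Subtype.ext; apply Subtype.ext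
      simp [hy, conj_pow]
    have hord : f y ^ Nat.card G = 1 := by
      obtain ⟨m, hm⟩ := (Subgroup.card_subgroup_dvd_card (Nof H)).trans
        (Subgroup.card_subgroup_dvd_card (Lof H))
      rw [hm, pow_mul, ← map_pow, pow_card_eq_one', map_one, one_pow]
    have hgcd := pow_gcd_eq_one.2 ⟨hyk, hord⟩
    rwa [hk.gcd_eq_one, pow_one] at hgcd
  set ν : G → ℂ := (fun g => μ g + conj (μ g)) * fun g => μ g + conj (μ g) with hν
  have hνc : IsCharacter G ν := by
    have := Char.isCharacter_add (Char.IsIrr.isCharacter hμ)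
      (Char.isCharacter_conj (Char.IsIrr.isCharacter hμ))
    exact Char.isCharacter_mul this this
  have hνval : ∀ g, ν g = ((4 * (μ g).re ^ 2 : ℝ) : ℂ) := fun g => by
    simp only [hν, Pi.mul_apply, Complex.add_conj]; push_cast; ring
  have hgal := Char.card_le_sum_of_galois_closed hνc T hTclosed fun g hg => by
    rw [hνval, Complex.ofReal_im, Complex.ofReal_re]
    refine ⟨rfl, ?_⟩
    have hre : (μ g).re ≠ 0 := fun e => hint g (Finset.mem_filter.1 hg).2
      (by rw [Complex.add_conj, e]; simp)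
    positivity
  simp only [hνval, Complex.ofReal_re] at hgal
  -- transfer to `A`
  have hμc := Char.isClassFunction_of_isIrr hμ
  have hTsum := sum_Bof hG (fun g => if P g then 4 * (μ g).re ^ 2 else 0)
    (fun g k => by simp only [hPconj g k, hμc g k])
  have hTone := sum_Bof hG (fun g => if P g then (1 : ℝ) else 0)
    (fun g k => by simp only [hPconj g k])
  have hTB : (Bof H).filter P = T := by
    ext g
    simp only [hT, Finset.mem_filter, Finset.mem_univ, true_and]
    exact ⟨fun h => h.2, fun h => ⟨hPB g h, h⟩⟩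
  rw [← Finset.sum_filter, ← Finset.sum_filter, hTB, ← hAdef, ← hout] at hTsum hTone
  rw [Finset.sum_const, Finset.sum_const, nsmul_one, nsmul_one] at hTone
  have hG0 : (0 : ℝ) < Nat.card G := Nat.cast_pos.2 Nat.card_pos
  have hL : (0 : ℝ) < Nat.card (Lof H) := Nat.cast_pos.2 Nat.card_pos
  have hout_le : (out.card : ℝ) ≤ ∑ a ∈ out, 4 * (μ (a : G)).re ^ 2 := by
    refine le_of_mul_le_mul_left ?_ hG0
    rw [← hTone, ← hTsum]
    exact mul_le_mul_of_nonneg_left hgal hL.le
  -- the imaginary part on `A`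
  have himag : ∑ a ∈ A, (χ a).im ^ 2 = (Nat.card (Lof H) : ℝ) / 2 := by
    have hoff : ∀ x ∉ Nof H, (χ - conjFun χ) x = 0 := fun x hx => by
      simp [conjFun, FrobKernel.linFamily_off hχ hx]
    have h := sum_normSq_A hoff
    have hne := Char.classInner_irr_ne hχirr (isIrr_conjFun hχirr) hχne.symm
    rw [classInner_sub_left, classInner_sub_right, classInner_sub_right,
      Char.classInner_irr_self hχirr, Char.classInner_irr_self (isIrr_conjFun hχirr), hne,
      Char.classInner_irr_ne (isIrr_conjFun hχirr) hχirr hχne] at h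
    simp only [Pi.sub_apply, isChar_conjFun_one (Char.IsIrr.isCharacter hχirr), sub_self,
      map_zero, sub_zero, zero_sub, sub_neg_eq_add, Complex.add_re, Complex.one_re] at h
    rw [← hAdef] at h
    have h4 : ∀ a ∈ A, Complex.normSq (χ a - conjFun χ a) = 4 * (χ a).im ^ 2 := fun a _ => by
      simp [conjFun, Complex.normSq_apply]; ring
    rw [Finset.sum_congr rfl h4, ← Finset.mul_sum] at h
    linarith
  have hsum : ∑ a ∈ A, (χ a).im ^ 2 + (1 / 4 : ℝ) * ∑ a ∈ out, 4 * (μ (a : G)).re ^ 2 ≤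
      ∑ a ∈ A, Complex.normSq (μ (a : G)) := by
    rw [Finset.mul_sum, hout, Finset.sum_filter (s := A) (fun a : Lof H => P (a : G)), ← Finset.sum_add_distrib]
    refine Finset.sum_le_sum fun a ha => ?_
    have him : (χ a).im = (μ (a : G)).im := by
      have := congrArg Complex.im (hdiff a ha)
      simp at this
      linarith
    rw [him, Complex.normSq_apply]
    split_ifs <;> nlinarith [sq_nonneg (μ (a : G)).re]
  have hB := sum_Bof hG (fun g => Complex.normSq (μ g)) (fun g k => by rw [hμc g k])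
  rw [← hAdef] at hB
  have hKcard := FrobKernel.card_hom_mul (N := Nof H)
  rw [← ha, ← ha', card_Nof] at hKcard
  have hKr : (2 * (Nof H).index + 1 : ℝ) * Nat.card {x : Nof H // K x} = Nat.card H := by
    exact_mod_cast hKcard
  have houtr : (out.card : ℝ) + Nat.card {x : Nof H // K x} = Nat.card H := by
    exact_mod_cast houtcard
  have hLr : (Nat.card (Lof H) : ℝ) = Nat.card H * (Nof H).index := by
    rw [← Nat.cast_mul, ← card_Nof (H := H), Subgroup.card_mul_index]
  refine le_of_mul_le_mul_left ?_ hL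
  rw [hB, ← mul_assoc, mul_comm _ (Nat.card G : ℝ)]
  refine mul_le_mul_of_nonneg_left ?_ hG0.le
  have hkey : (Nat.card (Lof H) : ℝ) * (1 / (4 * (Nof H).index + 2)) = (out.card : ℝ) / 4 := by
    have hout2 : (out.card : ℝ) = 2 * (Nof H).index * Nat.card {x : Nof H // K x} := by
      linear_combination houtr - hKr
    rw [hLr, ← hKr, hout2]
    have : (4 * (Nof H).index + 2 : ℝ) ≠ 0 := by positivity
    field_simp
    ring
  nlinarith

end Map

end Cfsg.Agent.Coherence.FrobFamily
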